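import Mathlib
import Cfsg.Agent.CompLayer
import Cfsg.Agent.S0033

/-!
Automorphisms of prime order `r` of groups of order prime to `r`: fixed points in invariant sets,
fixed lifts, invariant Sylow subgroups, and two rigidity lemmas for perfect groups (helper12).
-/

set_option autoImplicit false

open scoped commutatorElement Pointwise
open Cfsg

namespace H12.RComp

variable {G : Type*} [Group G]

/-- An automorphism with trivial `r`-th power of a group of order prime to `r`. -/
def Op (r : ℕ) (α : MulAut G) : Prop := α ^ r = 1 ∧ ¬ r ∣ Nat.card G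

/-- The elements fixed by an automorphism. -/
def fix (α : MulAut G) : Subgroup G where
  carrier := {x | α x = x}
  mul_mem' {a b} (ha : α a = a) (hb : α b = b) := show α (a * b) = a * b by rw [map_mul, ha, hb]
  one_mem' := map_one α
  inv_mem' {a} (ha : α a = a) := show α a⁻¹ = a⁻¹ by rw [map_inv, ha]

theorem mem_fix {α : MulAut G} {x : G} : x ∈ fix α ↔ α x = x := Iff.rfl

/-- `A` is mapped into itself. -/
def Inv (α : MulAut G) (A : Subgroup G) : Prop := ∀ a ∈ A, α a ∈ A

/-- The subgroup generated by the displacements `a * (α a)⁻¹`, `a ∈ A`. -/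
def moved (α : MulAut G) (A : Subgroup G) : Subgroup G :=
  Subgroup.closure ((fun a => a * (α a)⁻¹) '' (A : Set G))

theorem disp_mem_moved {α : MulAut G} {A : Subgroup G} {a : G} (ha : a ∈ A) :
    a * (α a)⁻¹ ∈ moved α A :=
  Subgroup.subset_closure ⟨a, ha, rfl⟩

theorem moved_le_iff {α : MulAut G} {A H : Subgroup G} :
    moved α A ≤ H ↔ ∀ a ∈ A, a * (α a)⁻¹ ∈ H := by
  rw [moved, Subgroup.closure_le, Set.image_subset_iff]
  exact Iff.rfl

theorem Inv.moved_le {α : MulAut G} {A : Subgroup G} (h : Inv α A) : moved α A ≤ A :=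
  moved_le_iff.mpr fun a ha => mul_mem ha (inv_mem (h a ha))

theorem Inv.top (α : MulAut G) : Inv α ⊤ := fun _ _ => trivial

theorem Inv.sup {α : MulAut G} {A B : Subgroup G} (hA : Inv α A) (hB : Inv α B) :
    Inv α (A ⊔ B) := by
  have : A ⊔ B ≤ (A ⊔ B).comap α.toMonoidHom :=
    sup_le (fun a ha => Subgroup.mem_sup_left (hA a ha)) (fun a ha => Subgroup.mem_sup_right (hB a ha))
  exact fun a ha => this ha

theorem Inv.inf {α : MulAut G} {A B : Subgroup G} (hA : Inv α A) (hB : Inv α B) :
    Inv α (A ⊓ B) := fun a ha => ⟨hA a ha.1, hB a ha.2⟩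

theorem Inv.map_eq [Finite G] {α : MulAut G} {A : Subgroup G} (h : Inv α A) :
    A.map α.toMonoidHom = A :=
  Subgroup.eq_of_le_of_card_ge (by rintro _ ⟨a, ha, rfl⟩; exact h a ha)
    (Subgroup.card_map_of_injective α.injective).ge

theorem Inv.exists_preimage [Finite G] {α : MulAut G} {A : Subgroup G} (h : Inv α A) {y : G}
    (hy : y ∈ A) : ∃ x ∈ A, α x = y := by
  rw [← h.map_eq] at hy
  exact hy

theorem Inv.centralizer [Finite G] {α : MulAut G} {A : Subgroup G} (h : Inv α A) :
    Inv α (Subgroup.centralizer (A : Set G)) := fun c hc =>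
  Subgroup.mem_centralizer_iff.mpr fun y hy => by
    obtain ⟨x, hx, rfl⟩ := h.exists_preimage hy
    rw [← map_mul, ← map_mul, Subgroup.mem_centralizer_iff.mp hc x hx]

theorem Inv.normalizer [Finite G] {α : MulAut G} {A : Subgroup G} (h : Inv α A) :
    Inv α (Subgroup.normalizer (A : Set G)) := fun c hc => by
  refine Subgroup.mem_normalizer_fintype fun y hy => ?_
  obtain ⟨x, hx, rfl⟩ := h.exists_preimage hy
  rw [← map_inv, ← map_mul, ← map_mul]
  exact h _ ((Subgroup.mem_normalizer_iff.mp hc x).mp hx)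

theorem Inv.of_characteristic (α : MulAut G) (A : Subgroup G) [hA : A.Characteristic] :
    Inv α A := fun a ha => by
  have h := Subgroup.characteristic_iff_comap_eq.mp hA α
  rw [← h] at ha
  exact ha

theorem pow_apply_mem {α : MulAut G} {A : Subgroup G} (h : Inv α A) {a : G} (ha : a ∈ A) :
    ∀ n : ℕ, (α ^ n) a ∈ A := by
  intro n
  induction n with
  | zero => simpa using ha
  | succ n ih => rw [pow_succ', MulAut.mul_apply]; exact h _ ih

section Fixed

variable {r : ℕ} [hr : Fact r.Prime] [Finite G]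

/-- An invariant set of size prime to `r` contains a fixed point. -/
theorem exists_fixed_mem {α : MulAut G} (hα : α ^ r = 1) (s : Set G) (hs : ∀ x ∈ s, α x ∈ s)
    (hcard : ¬ r ∣ Nat.card s) : ∃ x ∈ s, α x = x := by
  classical
  haveI := Fintype.ofFinite s
  let f : s → s := fun x => ⟨α x, hs x x.2⟩
  have hf : Function.Bijective f := Finite.injective_iff_bijective.mp fun x y h =>
    Subtype.ext (α.injective (congrArg Subtype.val h))
  let σ : Equiv.Perm s := Equiv.ofBijective f hf
  have hpow : ∀ n : ℕ, ∀ x : s, ((σ ^ n) x : G) = (α ^ n) x := by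
    intro n
    induction n with
    | zero => intro x; simp
    | succ n ih =>
      intro x
      rw [pow_succ', pow_succ', Equiv.Perm.mul_apply, MulAut.mul_apply, ← ih x]
      rfl
  have hσ : σ ^ r ^ 1 = 1 := by
    rw [pow_one]
    ext x
    rw [hpow r x, hα]
    simp
  rw [Nat.card_eq_fintype_card] at hcard
  obtain ⟨x, hx⟩ := Equiv.Perm.exists_fixed_point_of_prime hcard hσ
  exact ⟨x, x.2, congrArg Subtype.val hx⟩

/-- Fixed lifts: a fixed coset of an invariant subgroup contains a fixed point. -/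
theorem exists_fixed_lift {α : MulAut G} (hα : α ^ r = 1) {N : Subgroup G} (hN : Inv α N)
    (hNr : ¬ r ∣ Nat.card N) {x : G} (hx : x⁻¹ * α x ∈ N) : ∃ n ∈ N, α (x * n) = x * n := by
  obtain ⟨_, ⟨n, hn, rfl⟩, h⟩ := exists_fixed_mem hα ((fun n => x * n) '' (N : Set G))
    (by
      rintro _ ⟨n, hn, rfl⟩
      exact ⟨x⁻¹ * α x * α n, mul_mem hx (hN n hn), by simp only [map_mul]; group⟩)
    (by
      rw [Nat.card_image_of_injective (mul_right_injective x)]
      exact hNr)
  exact ⟨n, hn, h⟩

omit hr in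
theorem Op.not_dvd {α : MulAut G} (h : Op r α) (H : Subgroup G) : ¬ r ∣ Nat.card H :=
  fun hd => h.2 (hd.trans H.card_subgroup_dvd_card)

end Fixed

/-! ### Restriction and quotients -/

/-- Restriction to an invariant subgroup. -/
noncomputable def restrict [Finite G] (α : MulAut G) (H : Subgroup G) (hH : Inv α H) :
    MulAut ↥H :=
  (α.subgroupMap H).trans (MulEquiv.subgroupCongr hH.map_eq)

@[simp] theorem coe_restrict [Finite G] (α : MulAut G) (H : Subgroup G) (hH : Inv α H) (x : H) :
    (restrict α H hH x : G) = α x := rfl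

theorem coe_restrict_pow [Finite G] (α : MulAut G) (H : Subgroup G) (hH : Inv α H) (n : ℕ) :
    ∀ x : H, ((restrict α H hH ^ n) x : G) = (α ^ n) x := by
  induction n with
  | zero => intro x; simp
  | succ n ih => intro x; rw [pow_succ', pow_succ', MulAut.mul_apply, MulAut.mul_apply, coe_restrict, ih]

theorem Op.restrict [Finite G] {r : ℕ} {α : MulAut G} (h : Op r α) (H : Subgroup G)
    (hH : Inv α H) : Op r (RComp.restrict α H hH) :=
  ⟨by ext x; rw [coe_restrict_pow, h.1]; simp, fun hd => h.2 (hd.trans H.card_subgroup_dvd_card)⟩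

/-- The induced automorphism of a quotient. -/
noncomputable def quot [Finite G] (α : MulAut G) (N : Subgroup G) [N.Normal] (hN : Inv α N) :
    MulAut (G ⧸ N) :=
  QuotientGroup.congr N N α hN.map_eq

@[simp] theorem quot_mk [Finite G] (α : MulAut G) (N : Subgroup G) [N.Normal] (hN : Inv α N)
    (x : G) : quot α N hN (QuotientGroup.mk' N x) = QuotientGroup.mk' N (α x) := rfl

theorem Op.quot [Finite G] {r : ℕ} {α : MulAut G} (h : Op r α) (N : Subgroup G) [N.Normal]
    (hN : Inv α N) : Op r (RComp.quot α N hN) := by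
  have hp : ∀ (n : ℕ) (x : G), (RComp.quot α N hN ^ n) (QuotientGroup.mk' N x) =
      QuotientGroup.mk' N ((α ^ n) x) := by
    intro n
    induction n with
    | zero => intro x; simp
    | succ n ih => intro x; rw [pow_succ', pow_succ', MulAut.mul_apply, MulAut.mul_apply, ih, quot_mk]
  refine ⟨?_, fun hd => h.2 (hd.trans (Subgroup.card_quotient_dvd_card N))⟩
  ext x
  obtain ⟨y, rfl⟩ := QuotientGroup.mk'_surjective N x
  rw [hp, h.1]
  rfl

variable {r : ℕ} [hr : Fact r.Prime]

theorem exists_fixed_lift_quot [Finite G] {α : MulAut G} (h : Op r α) (N : Subgroup G) [N.Normal]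
    (hN : Inv α N) {q : G ⧸ N} (hq : RComp.quot α N hN q = q) :
    ∃ y : G, α y = y ∧ QuotientGroup.mk' N y = q := by
  obtain ⟨x, rfl⟩ := QuotientGroup.mk'_surjective N q
  rw [quot_mk] at hq
  obtain ⟨n, hn, h1⟩ := exists_fixed_lift h.1 hN (h.not_dvd N) (QuotientGroup.eq.mp hq.symm)
  refine ⟨x * n, h1, ?_⟩
  rw [map_mul, show QuotientGroup.mk' N n = 1 from (QuotientGroup.eq_one_iff n).mpr hn, mul_one]

/-- An invariant Sylow subgroup. -/
theorem exists_inv_sylow [Finite G] {α : MulAut G} (h : Op r α) (p : ℕ) [Fact p.Prime] :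
    ∃ P : Sylow p G, Inv α (P : Subgroup G) := by
  classical
  haveI := Fintype.ofFinite (Sylow p G)
  let σ : Equiv.Perm (Sylow p G) := MulAction.toPermHom (MulAut G) (Sylow p G) α
  have hσ : σ ^ r ^ 1 = 1 := by
    rw [pow_one]
    show MulAction.toPermHom (MulAut G) (Sylow p G) α ^ r = 1
    rw [← map_pow, h.1, map_one]
  have hc : ¬ r ∣ Fintype.card (Sylow p G) := fun hd => h.2 (by
    obtain ⟨P⟩ : Nonempty (Sylow p G) := inferInstance
    rw [← Nat.card_eq_fintype_card] at hd
    exact hd.trans ((P.card_dvd_index).trans ((P : Subgroup G).index_dvd_card)))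
  obtain ⟨P, hP⟩ := Equiv.Perm.exists_fixed_point_of_prime hc hσ
  refine ⟨P, fun a ha => ?_⟩
  have h1 : α • (P : Subgroup G) = (P : Subgroup G) := congrArg Sylow.toSubgroup hP
  exact h1.le (Subgroup.smul_mem_pointwise_smul a α _ ha)

/-- An invariant Sylow subgroup of an invariant subgroup. -/
theorem exists_inv_sylow_le [Finite G] {α : MulAut G} (h : Op r α) (p : ℕ) [Fact p.Prime]
    (H : Subgroup G) (hH : Inv α H) :
    ∃ P : Sylow p ↥H, Inv α ((P : Subgroup ↥H).map H.subtype) := by
  obtain ⟨P, hP⟩ := exists_inv_sylow (h.restrict H hH) p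
  refine ⟨P, ?_⟩
  rintro _ ⟨x, hx, rfl⟩
  exact ⟨RComp.restrict α H hH x, hP x hx, rfl⟩

/-! ### Rigidity -/

/-- A perfect group whose fixed points are central is trivial. -/
theorem subsingleton_of_fixed_central {B : Type*} [Group B] [Finite B] {β : MulAut B}
    (h : Op r β) (hB : commutator B = ⊤) (hf : fix β ≤ Subgroup.center B) : Subsingleton B := by
  have key : Group.IsSolvable B → Subsingleton B := fun hs => by
    by_contra hne
    rw [not_subsingleton_iff_nontrivial] at hne
    haveI : Group.IsPerfect B := ⟨hB⟩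
    exact Group.IsPerfect.not_isSolvable B hs
  let Z := Subgroup.center B
  have hZ : Inv β Z := Inv.of_characteristic β Z
  have hfpf : ∀ q : B ⧸ Z, quot β Z hZ q = q → q = 1 := by
    intro q hq
    obtain ⟨y, hy, rfl⟩ := exists_fixed_lift_quot h Z hZ hq
    exact (QuotientGroup.eq_one_iff y).mpr (hf hy)
  by_cases h1 : quot β Z hZ = 1
  · refine key (Group.isSolvable_of_comm fun a b => ?_)
    have hq := hfpf (QuotientGroup.mk' Z b) (by rw [h1]; rfl)
    exact Subgroup.mem_center_iff.mp ((QuotientGroup.eq_one_iff b).mp hq) a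
  · have hnil : Group.IsNilpotent (B ⧸ Z) :=
      Cfsg.Agent.S0033.result (quot β Z hZ) (fun q hq => hfpf q hq) r hr.out
        (orderOf_eq_prime (h.quot Z hZ).1 h1)
    haveI := Group.of_quotient_center_nilpotent hnil
    exact key inferInstance

theorem isPerfect_subgroup {A : Subgroup G} (hA : ⁅A, A⁆ = A) : commutator ↥A = ⊤ := by
  apply Subgroup.map_injective A.subtype_injective
  rw [Subgroup.map_subtype_commutator, hA, ← MonoidHom.range_eq_map, Subgroup.range_subtype]

/-- A perfect invariant subgroup whose fixed points are central in it is trivial. -/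
theorem eq_bot_of_fixed_central [Finite G] {α : MulAut G} (h : Op r α) {A : Subgroup G}
    (hA : ⁅A, A⁆ = A) (hi : Inv α A)
    (hf : ∀ a ∈ A, α a = a → a ∈ Subgroup.centralizer (A : Set G)) : A = ⊥ := by
  haveI := subsingleton_of_fixed_central (h.restrict A hi) (isPerfect_subgroup hA) (fun a ha =>
    Subgroup.mem_center_iff.mpr fun b => Subtype.ext
      (Subgroup.mem_centralizer_iff.mp (hf a a.2 (congrArg Subtype.val ha)) b b.2))
  exact Subgroup.eq_bot_of_subsingleton A

/-- If `A` is perfect, lies in `M ⊔ C` with `M`, `C` invariant and commuting, and centralises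
the fixed points in `M`, then `A ≤ C`. -/
theorem perfect_le_of_le_sup_fixed [Finite G] {α : MulAut G} (h : Op r α) {A M C : Subgroup G}
    (hA : ⁅A, A⁆ = A) (hAi : Inv α A) (hMi : Inv α M) (hCi : Inv α C)
    (hMC : M ≤ Subgroup.centralizer (C : Set G)) (hle : A ≤ M ⊔ C)
    (hfix : ∀ m ∈ M, α m = m → m ∈ Subgroup.centralizer (A : Set G)) : A ≤ C := by
  have hMN : M ≤ Subgroup.normalizer (C : Set G) :=
    hMC.trans (Subgroup.centralizer_le_normalizer _)
  have hAN : A ≤ Subgroup.normalizer (C : Set G) :=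
    hle.trans (sup_le hMN Subgroup.le_normalizer)
  let N : Subgroup ↥A := C.subgroupOf A
  haveI hN : N.Normal := ⟨fun n hn a => by
    show ((a * n * a⁻¹ : ↥A) : G) ∈ C
    simpa using (Subgroup.mem_normalizer_iff.mp (hAN a.2) (n : G)).mp hn⟩
  let β := RComp.restrict α A hAi
  have hNi : Inv β N := fun a ha => hCi _ ha
  have hβ := h.restrict A hAi
  haveI hperf : Group.IsPerfect ↥A := ⟨isPerfect_subgroup hA⟩
  have hq : commutator (↥A ⧸ N) = ⊤ :=
    (Group.IsPerfect.ofSurjective (QuotientGroup.mk'_surjective N)).commutator_eq_top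
  have hc : fix (RComp.quot β N hNi) ≤ Subgroup.center (↥A ⧸ N) := by
    intro q hq
    obtain ⟨a, ha, rfl⟩ := exists_fixed_lift_quot hβ N hNi hq
    have haG : α (a : G) = a := congrArg Subtype.val ha
    -- a fixed element of `M` in the coset of `a`
    have ha' : (a : G) ∈ M ⊔ C := hle a.2
    rw [← SetLike.mem_coe, Subgroup.coe_mul_of_left_le_normalizer_right M C hMN] at ha'
    obtain ⟨m, hm, c, hc, hmc⟩ := ha'
    simp only at hmc
    have hd : m⁻¹ * α m ∈ M ⊓ C := by
      refine Subgroup.mem_inf.mpr ⟨mul_mem (M.inv_mem hm) (hMi m hm), ?_⟩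
      have h2 : α m * α c = m * c := by rw [← map_mul, hmc, haG]
      have h3 : m⁻¹ * α m = c * (α c)⁻¹ := by
        rw [eq_mul_inv_iff_mul_eq, mul_assoc, h2, inv_mul_cancel_left]
      rw [h3]
      exact C.mul_mem hc (C.inv_mem (hCi c hc))
    obtain ⟨d, hdd, hfd⟩ := exists_fixed_lift h.1 (hMi.inf hCi) (h.not_dvd _) hd
    have hm' : m * d ∈ M := mul_mem hm hdd.1
    have hc' : d⁻¹ * c ∈ C := mul_mem (inv_mem hdd.2) hc
    have hcen := hfix _ hm' hfd
    refine Subgroup.mem_center_iff.mpr fun q' => ?_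
    obtain ⟨b, rfl⟩ := QuotientGroup.mk'_surjective N q'
    rw [← map_mul, ← map_mul]
    refine (QuotientGroup.eq (s := N)).mpr ?_
    show ((b * a)⁻¹ * (a * b) : ↥A).1 ∈ C
    simp only [Subgroup.coe_mul, InvMemClass.coe_inv]
    have e1 : (a : G) = m * d * (d⁻¹ * c) := by rw [← hmc]; group
    have e2 : (b : G) * (m * d) = (m * d) * b := Subgroup.mem_centralizer_iff.mp hcen b b.2
    have e3 : ((b : G) * a)⁻¹ * (a * b) = (d⁻¹ * c)⁻¹ * ((b : G)⁻¹ * (d⁻¹ * c) * b) := by
      rw [e1]
      calc ((b : G) * (m * d * (d⁻¹ * c)))⁻¹ * (m * d * (d⁻¹ * c) * b)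
          = (d⁻¹ * c)⁻¹ * (((b : G) * (m * d))⁻¹ * ((m * d) * b)) * ((b : G)⁻¹ * (d⁻¹ * c) * b) := by
            group
        _ = _ := by rw [e2]; group
    rw [e3]
    refine mul_mem (inv_mem hc') ?_
    have h6 := (Subgroup.mem_normalizer_iff.mp (inv_mem (hAN b.2)) _).mp hc'
    simpa using h6
  haveI := subsingleton_of_fixed_central (hβ.quot N hNi) hq hc
  intro a ha
  exact (QuotientGroup.eq_one_iff (N := N) (⟨a, ha⟩ : ↥A)).mp (Subsingleton.elim _ _)

end H12.RComp
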