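import Mathlib
import Cfsg.Prelude.Def_Transfer
import Cfsg.Agent.H12.RComp.Basic

/-!
A perfect group with a coprime automorphism `β` of prime order, generated by its displacements,
acts trivially on a `p`-group `V` carrying a compatible automorphism `σ` all of whose fixed points it
fixes (helper12).  The irreducible case is the fixed-point theorem of Shult type, taken here as the
hypothesis `Shult`.
-/

set_option autoImplicit false

open scoped commutatorElement
open Cfsg

namespace H12.RComp

universe u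

/-- The fixed-point theorem of Shult type, in the form used here. -/
def Shult : Prop :=
  ∀ (X : Type u) [Group X] [Finite X] (G R : Subgroup X) [G.Normal], G ⊔ R = ⊤ →
    ∀ (r : ℕ), r.Prime → Nat.card R = r → ¬ r ∣ Nat.card G →
    ∀ (p : ℕ) [Fact p.Prime] (V : Type u) [AddCommGroup V] [Module (ZMod p) V]
      [FiniteDimensional (ZMod p) V] [Nontrivial V] (ρ : Representation (ZMod p) X V),
      Function.Injective ρ →
      (∀ W : Submodule (ZMod p) V, (∀ x : X, W.map (ρ x) ≤ W) → W = ⊥ ∨ W = ⊤) →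
      (∀ v : V, (∀ x ∈ R, ρ x v = v) → v = 0) →
      ⁅G, R⁆ = ⊥ ∨ IsPGroup 2 ↥⁅G, R⁆

section Act

variable {V : Type u} [Group V] {A : Type u} [Group A]

/-- A homomorphism of a perfect group with commutative image is trivial. -/
theorem eq_one_of_perfect_comm (hA : commutator A = ⊤) (ρ : A →* MulAut V)
    (h : ∀ a b, ρ a * ρ b = ρ b * ρ a) : ρ = 1 := by
  have hk : commutator A ≤ ρ.ker := by
    rw [commutator_def, Subgroup.commutator_le]
    intro a _ b _
    rw [MonoidHom.mem_ker, commutatorElement_def, map_mul, map_mul, map_mul, map_inv, map_inv,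
      h a b]
    group
  ext a v
  rw [MonoidHom.mem_ker.mp (hk (hA.ge (Subgroup.mem_top a)))]
  rfl

/-- A `p`-group has no nontrivial perfect image; here: an image of `p`-power order is trivial. -/
theorem eq_one_of_perfect_range [Finite A] (hA : commutator A = ⊤) (ρ : A →* MulAut V)
    (h : Group.IsSolvable ρ.range) : ρ = 1 := by
  haveI : Group.IsPerfect A := ⟨hA⟩
  haveI : Group.IsPerfect ρ.range := Group.IsPerfect.ofSurjective ρ.rangeRestrict_surjective
  have hs : Subsingleton ρ.range := by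
    by_contra hne
    rw [not_subsingleton_iff_nontrivial] at hne
    exact Group.IsPerfect.not_isSolvable ρ.range h
  ext a v
  have h1 : (⟨ρ a, a, rfl⟩ : ρ.range) = ⟨1, one_mem _⟩ := Subsingleton.elim _ _
  have h2 : ρ a = 1 := congrArg Subtype.val h1
  rw [h2]
  rfl

/-- The automorphism of an invariant subgroup induced by an automorphism. -/
noncomputable def actSub [Finite V] (W : Subgroup V) (ρ : A →* MulAut V)
    (hW : ∀ a, Inv (ρ a) W) : A →* MulAut ↥W where
  toFun a := restrict (ρ a) W (hW a)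
  map_one' := by ext w; simp
  map_mul' a b := by ext w; simp

theorem coe_actSub [Finite V] (W : Subgroup V) (ρ : A →* MulAut V) (hW : ∀ a, Inv (ρ a) W)
    (a : A) (w : W) : (actSub W ρ hW a w : V) = ρ a w := rfl

/-- The automorphism of a quotient induced by an automorphism. -/
noncomputable def actQuot [Finite V] (W : Subgroup V) [W.Normal] (ρ : A →* MulAut V)
    (hW : ∀ a, Inv (ρ a) W) : A →* MulAut (V ⧸ W) where
  toFun a := quot (ρ a) W (hW a)
  map_one' := by
    ext q
    obtain ⟨x, rfl⟩ := QuotientGroup.mk'_surjective W q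
    rw [quot_mk, map_one]
    rfl
  map_mul' a b := by
    ext q
    obtain ⟨x, rfl⟩ := QuotientGroup.mk'_surjective W q
    rw [MulAut.mul_apply, quot_mk, quot_mk, quot_mk, map_mul, MulAut.mul_apply]

theorem actQuot_mk [Finite V] (W : Subgroup V) [W.Normal] (ρ : A →* MulAut V)
    (hW : ∀ a, Inv (ρ a) W) (a : A) (x : V) :
    actQuot W ρ hW a (QuotientGroup.mk' W x) = QuotientGroup.mk' W (ρ a x) := rfl

end Act

variable (hS : Shult.{u}) {r p : ℕ} [hr : Fact r.Prime] [hp : Fact p.Prime]

include hS in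
/-- The elementary abelian irreducible case, without nontrivial fixed point. -/
theorem cent_irred {V : Type u} [CommGroup V] [Finite V] [Nontrivial V]
    (hexp : ∀ v : V, v ^ p = 1) {A : Type u} [Group A] [Finite A] {β : MulAut A} (hβ : Op r β)
    (hA : commutator A = ⊤) (hmov : moved β ⊤ = ⊤) (ρ : A →* MulAut V) (σ : MulAut V)
    (hσr : σ ^ r = 1) (heq : ∀ a, σ * ρ a * σ⁻¹ = ρ (β a))
    (hfpf : ∀ v, σ v = v → v = 1)
    (hirr : ∀ W : Subgroup V, (∀ a, Inv (ρ a) W) → Inv σ W → W = ⊥ ∨ W = ⊤) : ρ = 1 := by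
  have hσ1 : σ ≠ 1 := by
    intro h
    obtain ⟨v, hv⟩ := exists_ne (1 : V)
    exact hv (hfpf v (by rw [h]; rfl))
  let T : Subgroup (MulAut V) := ρ.range ⊔ Subgroup.zpowers σ
  let G₀ : Subgroup ↥T := ρ.range.subgroupOf T
  let R₀ : Subgroup ↥T := (Subgroup.zpowers σ).subgroupOf T
  haveI hn : G₀.Normal := by
    apply Subgroup.normal_subgroupOf_of_le_normalizer
    refine sup_le Subgroup.le_normalizer ((Subgroup.zpowers_le).mpr ?_)
    refine Subgroup.mem_normalizer_fintype ?_
    rintro _ ⟨a, rfl⟩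
    exact ⟨β a, (heq a).symm⟩
  have htop : G₀ ⊔ R₀ = ⊤ := by
    show ρ.range.subgroupOf T ⊔ (Subgroup.zpowers σ).subgroupOf T = ⊤
    rw [← Subgroup.subgroupOf_sup le_sup_left le_sup_right, Subgroup.subgroupOf_self]
  have hRc : Nat.card R₀ = r := by
    rw [Comp.card_subgroupOf (le_sup_right : Subgroup.zpowers σ ≤ T), Nat.card_zpowers]
    exact orderOf_eq_prime hσr hσ1
  have hGc : ¬ r ∣ Nat.card G₀ := fun hd => hβ.2 (by
    rw [Comp.card_subgroupOf (le_sup_left : ρ.range ≤ T)] at hd
    exact hd.trans (Subgroup.card_dvd_of_surjective ρ.rangeRestrict ρ.rangeRestrict_surjective))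
  haveI : Module (ZMod p) (Additive V) := AddCommGroup.zmodModule (n := p) fun v => by
    apply Additive.toMul.injective
    simpa using hexp (Additive.toMul v)
  haveI : FiniteDimensional (ZMod p) (Additive V) := Module.Finite.of_finite
  let π : Representation (ZMod p) ↥T (Additive V) :=
    ({ toFun := fun g => ((MonoidHom.toAdditive (g : MulAut V).toMonoidHom).toZModLinearMap p :
        Module.End (ZMod p) (Additive V))
       map_one' := by ext v; rfl
       map_mul' := fun g h => by ext v; rfl } : ↥T →* Module.End (ZMod p) (Additive V))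
  have hπ : ∀ (g : T) (v : V), π g (Additive.ofMul v) = Additive.ofMul ((g : MulAut V) v) :=
    fun _ _ => rfl
  have hfaith : Function.Injective π := by
    intro g h hgh
    apply Subtype.ext
    ext v
    have := LinearMap.congr_fun hgh (Additive.ofMul v)
    rw [hπ, hπ] at this
    exact Additive.ofMul.injective this
  have hsig : σ ∈ T := Subgroup.mem_sup_right (Subgroup.mem_zpowers σ)
  have hirr' : ∀ W : Submodule (ZMod p) (Additive V), (∀ x : T, W.map (π x) ≤ W) → W = ⊥ ∨ W = ⊤ := by
    intro W hW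
    let W' : Subgroup V := AddSubgroup.toSubgroup' W.toAddSubgroup
    have hmem : ∀ v, v ∈ W' ↔ Additive.ofMul v ∈ W := fun v => Iff.rfl
    have hinv : ∀ x : T, Inv (x : MulAut V) W' := fun x v hv =>
      hW x ⟨Additive.ofMul v, hv, rfl⟩
    rcases hirr W' (fun a => hinv ⟨ρ a, Subgroup.mem_sup_left ⟨a, rfl⟩⟩) (hinv ⟨σ, hsig⟩) with h | h
    · left
      rw [Submodule.eq_bot_iff]
      intro x hx
      have h1 : Additive.toMul x ∈ W' := hx
      rw [h, Subgroup.mem_bot] at h1
      exact Additive.toMul.injective h1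
    · right
      rw [Submodule.eq_top_iff']
      intro x
      exact (hmem (Additive.toMul x)).mp (h.ge (Subgroup.mem_top _))
  have hfix' : ∀ v : Additive V, (∀ x ∈ R₀, π x v = v) → v = 0 := by
    intro v hv
    have h1 : π ⟨σ, hsig⟩ v = v := hv _ (Subgroup.mem_zpowers σ)
    exact Additive.toMul.injective (hfpf (Additive.toMul v) (congrArg Additive.toMul h1))
  have key : ∀ a, ρ (a * (β a)⁻¹) = ρ a * σ * (ρ a)⁻¹ * σ⁻¹ := by
    intro a
    rw [map_mul, map_inv, ← heq]
    group
  rcases hS ↥T G₀ R₀ htop r hr.out hRc hGc p (Additive V) π hfaith hirr' hfix' with hc | hc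
  · -- `σ` commutes with the image
    have hker : moved β ⊤ ≤ ρ.ker := moved_le_iff.mpr fun a _ => by
      rw [MonoidHom.mem_ker, key]
      have h1 : ⁅(⟨ρ a, Subgroup.mem_sup_left ⟨a, rfl⟩⟩ : T), (⟨σ, hsig⟩ : T)⁆ ∈ ⁅G₀, R₀⁆ :=
        Subgroup.commutator_mem_commutator ⟨a, rfl⟩ (Subgroup.mem_zpowers σ)
      rw [hc, Subgroup.mem_bot] at h1
      exact congrArg Subtype.val h1
    rw [hmov] at hker
    ext a v
    rw [MonoidHom.mem_ker.mp (hker (Subgroup.mem_top a))]
    rfl
  · -- the image is a perfect `2`-group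
    have hle : ρ.range ≤ ⁅G₀, R₀⁆.map T.subtype := by
      rw [MonoidHom.range_eq_map, Subgroup.map_le_iff_le_comap, ← hmov]
      refine moved_le_iff.mpr fun a _ => ?_
      refine ⟨⁅(⟨ρ a, Subgroup.mem_sup_left ⟨a, rfl⟩⟩ : T), (⟨σ, hsig⟩ : T)⁆,
        Subgroup.commutator_mem_commutator ⟨a, rfl⟩ (Subgroup.mem_zpowers σ), ?_⟩
      show _ = ρ (a * (β a)⁻¹)
      rw [key]
      rfl
    have h2 : IsPGroup 2 ρ.range := (hc.map T.subtype).to_le hle
    haveI := h2.isNilpotent
    exact eq_one_of_perfect_range hA ρ inferInstance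

include hS in
private theorem cent_aux : ∀ (n : ℕ) (V : Type u) [Group V] [Finite V], Nat.card V = n →
    IsPGroup p V → ¬ r ∣ Nat.card V → ∀ (A : Type u) [Group A] [Finite A] (β : MulAut A),
    Op r β → commutator A = ⊤ → moved β ⊤ = ⊤ → ∀ (ρ : A →* MulAut V) (σ : MulAut V),
    σ ^ r = 1 → (∀ a, σ * ρ a * σ⁻¹ = ρ (β a)) → (∀ v, σ v = v → ∀ a, ρ a v = v) → ρ = 1 := by
  intro n
  induction n using Nat.strong_induction_on with
  | _ n ih =>
    intro V _ _ hn hV hVr A _ _ β hβ hA hmov ρ σ hσr heq hfix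
    -- reduction along an invariant abelian normal subgroup
    have red : ∀ W : Subgroup V, W.Normal → (∀ a, Inv (ρ a) W) → Inv σ W →
        (∀ x ∈ W, ∀ y ∈ W, x * y = y * x) → W ≠ ⊥ → W ≠ ⊤ → ρ = 1 := by
      intro W hWn hWa hWs hWc hW0 hW1
      have hlt : Nat.card W < n := hn ▸ lt_of_le_of_ne (Subgroup.card_le_card_group W)
        fun h => hW1 (W.eq_top_of_card_eq h)
      have hop : Op r σ := ⟨hσr, hVr⟩
      have h1 := ih _ hlt W rfl (hV.to_subgroup W) (hop.not_dvd W) A β hβ hA hmov
        (actSub W ρ hWa) (restrict σ W hWs) (hop.restrict W hWs).1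
        (fun a => by
          rw [mul_inv_eq_iff_eq_mul]
          ext w
          have h := DFunLike.congr_fun (mul_inv_eq_iff_eq_mul.mp (heq a)) (w : V)
          simpa [coe_actSub] using h)
        (fun w hw a => Subtype.ext (hfix w (congrArg Subtype.val hw) a))
      have hqlt : Nat.card (V ⧸ W) < n := by
        rw [← hn, Subgroup.card_eq_card_quotient_mul_card_subgroup W]
        exact lt_mul_right Nat.card_pos ((Subgroup.one_lt_card_iff_ne_bot W).mpr hW0)
      have h2 := ih _ hqlt (V ⧸ W) rfl (hV.to_quotient W) (hop.quot W hWs).2 A β hβ hA hmov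
        (actQuot W ρ hWa) (quot σ W hWs) (hop.quot W hWs).1
        (fun a => by
          rw [mul_inv_eq_iff_eq_mul]
          ext q
          obtain ⟨x, rfl⟩ := QuotientGroup.mk'_surjective W q
          have h := DFunLike.congr_fun (mul_inv_eq_iff_eq_mul.mp (heq a)) x
          simp only [MulAut.mul_apply] at h ⊢
          rw [actQuot_mk, quot_mk, quot_mk, actQuot_mk, h])
        (fun q hq a => by
          obtain ⟨y, hy, rfl⟩ := exists_fixed_lift_quot hop W hWs hq
          rw [actQuot_mk, hfix y hy a])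
      have htw : ∀ a, ∀ w ∈ W, ρ a w = w := fun a w hw => by
        have h := congrArg Subtype.val (DFunLike.congr_fun (DFunLike.congr_fun h1 a) (⟨w, hw⟩ : W))
        exact h
      have htq : ∀ a v, ∃ w ∈ W, ρ a v = v * w := fun a v => by
        have h := DFunLike.congr_fun (DFunLike.congr_fun h2 a) (QuotientGroup.mk' W v)
        rw [actQuot_mk] at h
        exact ⟨v⁻¹ * ρ a v, QuotientGroup.eq.mp h.symm, by group⟩
      refine eq_one_of_perfect_comm hA ρ fun a b => ?_
      ext v
      obtain ⟨w, hw, hwe⟩ := htq a v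
      obtain ⟨z, hz, hze⟩ := htq b v
      rw [MulAut.mul_apply, MulAut.mul_apply, hze, map_mul, hwe, map_mul, hze, htw a z hz,
        htw b w hw, mul_assoc, mul_assoc, hWc w hw z hz]
    rcases subsingleton_or_nontrivial V with hV1 | hV1
    · ext a v
      exact Subsingleton.elim _ _
    by_cases hcomm : ∀ x y : V, x * y = y * x
    swap
    · refine red (Subgroup.center V) inferInstance (fun a => Inv.of_characteristic _ _)
        (Inv.of_characteristic _ _) (fun x hx y _ => (Subgroup.mem_center_iff.mp hx y).symm) ?_ ?_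
      · haveI := hV.center_nontrivial
        exact (Subgroup.nontrivial_iff_ne_bot _).mp inferInstance
      · exact fun h => hcomm fun x y => Subgroup.mem_center_iff.mp (h ▸ Subgroup.mem_top y) x
    letI : CommGroup V := { ‹Group V› with mul_comm := hcomm }
    by_cases hexp : ∀ v : V, v ^ p = 1
    swap
    · let Ω : Subgroup V := (powMonoidHom p : V →* V).ker
      have hΩ : ∀ f : MulAut V, Inv f Ω := fun f v hv => by
        have hv' : v ^ p = 1 := hv
        show (f v) ^ p = 1
        rw [← map_pow, hv', map_one]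
      refine red Ω inferInstance (fun a => hΩ _) (hΩ σ) (fun x _ y _ => hcomm x y) ?_ ?_
      · intro hb
        have hdvd : p ∣ Nat.card V := by
          obtain ⟨k, hk, hc⟩ := hV.nontrivial_iff_card.mp inferInstance
          rw [hc]
          exact dvd_pow_self p hk.ne'
        obtain ⟨x, hx⟩ := exists_prime_orderOf_dvd_card' p hdvd
        have hxΩ : x ∈ Ω := show x ^ p = 1 by rw [← hx, pow_orderOf_eq_one]
        rw [hb, Subgroup.mem_bot] at hxΩ
        rw [hxΩ, orderOf_one] at hx
        exact hp.out.one_lt.ne hx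
      · exact fun h => hexp fun v => (h.ge (Subgroup.mem_top v) : v ∈ Ω)
    by_cases hred : ∃ W : Subgroup V, (∀ a, Inv (ρ a) W) ∧ Inv σ W ∧ W ≠ ⊥ ∧ W ≠ ⊤
    · obtain ⟨W, h1, h2, h3, h4⟩ := hred
      exact red W inferInstance h1 h2 (fun x _ y _ => hcomm x y) h3 h4
    have hirr : ∀ W : Subgroup V, (∀ a, Inv (ρ a) W) → Inv σ W → W = ⊥ ∨ W = ⊤ := by
      intro W h1 h2
      by_contra hne
      exact hred ⟨W, h1, h2, fun h => hne (.inl h), fun h => hne (.inr h)⟩
    by_cases hfpf : ∀ v, σ v = v → v = 1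
    · exact cent_irred hS hexp hβ hA hmov ρ σ hσr heq hfpf hirr
    push Not at hfpf
    obtain ⟨v, hv, hv1⟩ := hfpf
    let W : Subgroup V :=
      { carrier := {x | ∀ a, ρ a x = x}
        mul_mem' := fun {x y} (hx : ∀ a, ρ a x = x) (hy : ∀ a, ρ a y = y) a => by
          rw [map_mul, hx, hy]
        one_mem' := fun a => map_one _
        inv_mem' := fun {x} (hx : ∀ a, ρ a x = x) a => by rw [map_inv, hx] }
    have hW1 : ∀ a, Inv (ρ a) W := fun a x (hx : ∀ a, ρ a x = x) => by
      rw [hx a]
      exact hx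
    have hW2 : Inv σ W := fun x (hx : ∀ a, ρ a x = x) a => by
      have h := DFunLike.congr_fun (mul_inv_eq_iff_eq_mul.mp (heq (β.symm a))) x
      simp only [MulAut.mul_apply, MulEquiv.apply_symm_apply] at h
      rw [hx] at h
      exact h.symm
    rcases hirr W hW1 hW2 with h | h
    · exact absurd (Subgroup.mem_bot.mp (h ▸ hfix v hv : v ∈ (⊥ : Subgroup V))) hv1
    · ext a x
      exact (h.ge (Subgroup.mem_top x) : x ∈ W) a

include hS in
/-- The perfect group acts trivially. -/
theorem cent {V : Type u} [Group V] [Finite V] (hV : IsPGroup p V) (hVr : ¬ r ∣ Nat.card V)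
    {A : Type u} [Group A] [Finite A] {β : MulAut A} (hβ : Op r β) (hA : commutator A = ⊤)
    (hmov : moved β ⊤ = ⊤) (ρ : A →* MulAut V) (σ : MulAut V) (hσr : σ ^ r = 1)
    (heq : ∀ a, σ * ρ a * σ⁻¹ = ρ (β a)) (hfix : ∀ v, σ v = v → ∀ a, ρ a v = v) : ρ = 1 :=
  cent_aux hS _ V rfl hV hVr A β hβ hA hmov ρ σ hσr heq hfix

include hS in
/-- Subgroup form: `A` centralises the invariant `p`-subgroup `V` that it normalises, as soon as
it centralises the fixed points in `V`. -/
theorem le_centralizer_of_fixed {G : Type u} [Group G] [Finite G] {α : MulAut G} (h : Op r α)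
    {V A : Subgroup G} (hV : IsPGroup p V) (hVi : Inv α V) (hAi : Inv α A) (hA : ⁅A, A⁆ = A)
    (hmov : A ≤ moved α A) (hAV : A ≤ Subgroup.normalizer (V : Set G))
    (hfix : ∀ v ∈ V, α v = v → v ∈ Subgroup.centralizer (A : Set G)) :
    A ≤ Subgroup.centralizer (V : Set G) := by
  let ρ : ↥A →* MulAut ↥V := (Subgroup.normalizerMonoidHom V).comp (Subgroup.inclusion hAV)
  have hρ : ∀ (a : A) (v : V), (ρ a v : G) = a * v * (a : G)⁻¹ := fun _ _ => rfl
  have hmov' : moved (restrict α A hAi) ⊤ = ⊤ := by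
    refine top_unique fun a _ => ?_
    have hle : moved α A ≤ (moved (restrict α A hAi) ⊤).map A.subtype :=
      moved_le_iff.mpr fun x hx =>
        ⟨_, disp_mem_moved (α := restrict α A hAi) (Subgroup.mem_top (⟨x, hx⟩ : A)), rfl⟩
    obtain ⟨b, hb, hba⟩ := hle (hmov a.2)
    rwa [← Subtype.ext hba]
  have h1 := cent hS hV (h.not_dvd V) (h.restrict A hAi) (isPerfect_subgroup hA) hmov' ρ
    (restrict α V hVi) (h.restrict V hVi).1
    (fun a => by
      rw [mul_inv_eq_iff_eq_mul]
      ext v
      simp only [MulAut.mul_apply, coe_restrict, hρ, map_mul, map_inv])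
    (fun v hv a => Subtype.ext (by
      rw [hρ, Subgroup.mem_centralizer_iff.mp (hfix v v.2 (congrArg Subtype.val hv)) a a.2,
        mul_inv_cancel_right]))
  intro a ha
  rw [Subgroup.mem_centralizer_iff]
  intro v hv
  have h2 : (ρ ⟨a, ha⟩ ⟨v, hv⟩ : G) = v := by rw [h1]; rfl
  rw [hρ] at h2
  exact (mul_inv_eq_iff_eq_mul.mp h2).symm

end H12.RComp
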