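import Mathlib
import Cfsg.Agent.H12.RComp.Basic

/-!
Components of a subgroup, seen in the ambient group, and the hypothesis under which a subgroup is
shown to lie in the layer (helper12).
-/

set_option autoImplicit false

open scoped commutatorElement
open Cfsg

namespace H12.RComp

variable {G : Type*} [Group G]

/-- `K` is a component of the subgroup `A`. -/
def CompOf (A K : Subgroup G) : Prop := K ≤ A ∧ IsComponent (K.subgroupOf A)

theorem compOf_of_isComponent {A : Subgroup G} {K : Subgroup ↥A} (hK : IsComponent K) :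
    CompOf A (K.map A.subtype) := by
  refine ⟨Subgroup.map_subtype_le K, ?_⟩
  rwa [Subgroup.subgroupOf, Subgroup.comap_map_eq_self_of_injective A.subtype_injective]

theorem compOf_top_iff {K : Subgroup G} : CompOf ⊤ K ↔ IsComponent K := by
  refine ⟨fun h => ?_, fun h => ⟨le_top, Comp.isComponent_subgroupOf h le_top⟩⟩
  have := Comp.isComponent_map_equiv Subgroup.topEquiv h.2
  convert this using 1
  ext x
  constructor
  · exact fun hx => ⟨⟨x, trivial⟩, hx, rfl⟩
  · rintro ⟨y, hy, rfl⟩
    exact hy

theorem CompOf.perfect {A K : Subgroup G} (h : CompOf A K) : ⁅K, K⁆ = K := by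
  have := congrArg (Subgroup.map A.subtype) (Comp.isComponent_perfect h.2)
  rwa [Subgroup.map_commutator, Subgroup.map_subgroupOf_eq_of_le h.1] at this

theorem CompOf.ne_bot {A K : Subgroup G} (h : CompOf A K) : K ≠ ⊥ := by
  intro hb
  apply Comp.isComponent_ne_bot h.2
  rw [hb, Subgroup.bot_subgroupOf]

theorem CompOf.not_comm {A K : Subgroup G} (h : CompOf A K) :
    ¬ K ≤ Subgroup.centralizer (K : Set G) := fun hc => h.ne_bot (by
  rw [← h.perfect]
  exact Subgroup.commutator_eq_bot_iff_le_centralizer.mpr hc)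

theorem CompOf.le_or_commute [Finite G] {A K N : Subgroup G} (h : CompOf A K) (hNA : N ≤ A)
    (hN : (N.subgroupOf A).IsSubnormal) : K ≤ N ∨ ⁅K, N⁆ = ⊥ := by
  rcases Comp.component_le_or_commute h.2 hN with h1 | h1
  · left
    have := Subgroup.map_mono (f := A.subtype) h1
    rwa [Subgroup.map_subgroupOf_eq_of_le h.1, Subgroup.map_subgroupOf_eq_of_le hNA] at this
  · right
    have := congrArg (Subgroup.map A.subtype) h1
    rwa [Subgroup.map_commutator, Subgroup.map_subgroupOf_eq_of_le h.1,
      Subgroup.map_subgroupOf_eq_of_le hNA, Subgroup.map_bot] at this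

/-- A component of `A` lies in a subgroup normalised by `A` or commutes with its part in `A`. -/
theorem CompOf.le_or_commute_inf [Finite G] {A K N : Subgroup G} (h : CompOf A K)
    (hN : A ≤ Subgroup.normalizer (N : Set G)) : K ≤ N ∨ ⁅K, N ⊓ A⁆ = ⊥ :=
  (h.le_or_commute (inf_le_right : N ⊓ A ≤ A) (Subgroup.normal_subgroupOf_of_le_normalizer
    (Comp.inf_le_normalizer hN Subgroup.le_normalizer)).isSubnormal).imp
      (fun h1 => h1.trans inf_le_left) id

theorem CompOf.eq_or_commute [Finite G] {A K L : Subgroup G} (hK : CompOf A K) (hL : CompOf A L) :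
    K = L ∨ ⁅K, L⁆ = ⊥ := by
  rcases Comp.component_eq_or_commute hK.2 hL.2 with h | h
  · left
    have := congrArg (Subgroup.map A.subtype) h
    rwa [Subgroup.map_subgroupOf_eq_of_le hK.1, Subgroup.map_subgroupOf_eq_of_le hL.1] at this
  · right
    have := congrArg (Subgroup.map A.subtype) h
    rwa [Subgroup.map_commutator, Subgroup.map_subgroupOf_eq_of_le hK.1,
      Subgroup.map_subgroupOf_eq_of_le hL.1, Subgroup.map_bot] at this

/-- A component of `A` contained in the subgroup `B ≤ A` is a component of `B`. -/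
theorem CompOf.mono {A B K : Subgroup G} (h : CompOf A K) (hKB : K ≤ B) (hBA : B ≤ A) :
    CompOf B K :=
  ⟨hKB, (h.2.1.comap (Subgroup.inclusion hBA) : (K.subgroupOf B).IsSubnormal),
    Comp.isQuasisimple_of_equiv ((Subgroup.subgroupOfEquivOfLe h.1).trans
      (Subgroup.subgroupOfEquivOfLe hKB).symm) h.2.2⟩

/-- Images of components: components of the image, or trivial. -/
theorem CompOf.map {G' : Type*} [Group G'] {A K : Subgroup G} (h : CompOf A K) (f : G →* G')
    (hne : K.map f ≠ ⊥) : CompOf (A.map f) (K.map f) := by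
  have heq : (K.subgroupOf A).map (f.subgroupMap A) = (K.map f).subgroupOf (A.map f) := by
    ext ⟨y, hy⟩
    constructor
    · rintro ⟨⟨x, hxA⟩, hxK, hxy⟩
      exact ⟨x, hxK, congrArg Subtype.val hxy⟩
    · rintro ⟨x, hxK, hxy⟩
      exact ⟨⟨x, h.1 hxK⟩, hxK, Subtype.ext hxy⟩
  refine ⟨Subgroup.map_mono h.1, heq ▸ Comp.isComponent_map_of_ne_bot
    (f.subgroupMap_surjective A) h.2 fun hb => hne ?_⟩
  rw [← Subgroup.map_subgroupOf_eq_of_le (Subgroup.map_mono (f := f) h.1), ← heq, hb,
    Subgroup.map_bot]

theorem CompOf.map_equiv {A K : Subgroup G} (h : CompOf A K) (e : G ≃* G)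
    (hA : A.map e.toMonoidHom = A) : CompOf A (K.map e.toMonoidHom) := by
  have := h.map e.toMonoidHom fun hb =>
    h.ne_bot ((Subgroup.map_eq_bot_iff_of_injective K e.injective).mp hb)
  rwa [hA] at this

/-- The subgroup generated by a set of components of `A`. -/
theorem sSup_compOf_le {A : Subgroup G} {S : Set (Subgroup G)} (hS : ∀ K ∈ S, CompOf A K) :
    sSup S ≤ A :=
  sSup_le fun K hK => (hS K hK).1

theorem layer_map_eq_sSup (A : Subgroup G) :
    (layer ↥A).map A.subtype = sSup {K | CompOf A K} := by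
  refine le_antisymm ?_ (sSup_le fun K hK => ?_)
  · rw [Subgroup.map_le_iff_le_comap, Comp.layer_le_iff]
    intro L hL
    rw [← Subgroup.map_le_iff_le_comap]
    exact le_sSup (compOf_of_isComponent hL)
  · rw [← Subgroup.map_subgroupOf_eq_of_le hK.1]
    exact Subgroup.map_mono (Comp.le_layer hK.2)

/-- The hypothesis: `A` is invariant under `α` and the fixed points of `α`, is generated by its
components and by the displacements of its elements. -/
structure Hyp (α : MulAut G) (A : Subgroup G) : Prop where
  inv : Inv α A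
  norm : fix α ≤ Subgroup.normalizer (A : Set G)
  semis : A ≤ sSup {K | CompOf A K}
  mov : A ≤ moved α A

theorem Hyp.perfect {α : MulAut G} {A : Subgroup G} (h : Hyp α A) : ⁅A, A⁆ = A := by
  have he : A = sSup {K | CompOf A K} := le_antisymm h.semis (sSup_compOf_le fun _ hK => hK)
  rw [he]
  exact Comp.sSup_perfect _ fun K hK => CompOf.perfect hK

/-- `A` commutes with its normal solvable subgroups. -/
theorem Hyp.commute_solvable [Finite G] {α : MulAut G} {A H : Subgroup G} (h : Hyp α A)
    (hHA : H ≤ A) (hn : A ≤ Subgroup.normalizer (H : Set G)) (hs : Group.IsSolvable H) :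
    ⁅A, H⁆ = ⊥ := by
  rw [Subgroup.commutator_eq_bot_iff_le_centralizer]
  refine h.semis.trans (sSup_le fun K hK => Subgroup.commutator_eq_bot_iff_le_centralizer.mp ?_)
  rcases CompOf.le_or_commute hK hHA
    (Subgroup.normal_subgroupOf_of_le_normalizer hn).isSubnormal with h1 | h1
  · exfalso
    apply Comp.isComponent_not_isSolvable hK.2
    exact Group.isSolvable_of_isSolvable_injective
      (f := (Subgroup.inclusion h1).comp (Subgroup.subgroupOfEquivOfLe hK.1).toMonoidHom)
      ((Subgroup.inclusion_injective h1).comp (Subgroup.subgroupOfEquivOfLe hK.1).injective)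
  · exact h1

/-- The hypothesis passes to quotients. -/
theorem Hyp.map_quot [Finite G] {r : ℕ} [Fact r.Prime] {α : MulAut G} {A : Subgroup G}
    (h : Hyp α A) (hop : Op r α) (N : Subgroup G) [N.Normal] (hN : Inv α N) :
    Hyp (quot α N hN) (A.map (QuotientGroup.mk' N)) where
  inv := by
    rintro _ ⟨a, ha, rfl⟩
    exact ⟨α a, h.inv a ha, (quot_mk α N hN a).symm⟩
  norm := by
    intro q hq
    obtain ⟨y, hy, rfl⟩ := exists_fixed_lift_quot hop N hN hq
    refine Subgroup.mem_normalizer_fintype ?_
    rintro _ ⟨a, ha, rfl⟩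
    exact ⟨y * a * y⁻¹, (Subgroup.mem_normalizer_iff.mp (h.norm hy) a).mp ha, by simp⟩
  semis := by
    refine (Subgroup.map_mono h.semis).trans ?_
    rw [Subgroup.map_le_iff_le_comap]
    refine sSup_le fun K hK => ?_
    rw [← Subgroup.map_le_iff_le_comap]
    by_cases hb : K.map (QuotientGroup.mk' N) = ⊥
    · rw [hb]; exact bot_le
    · exact le_sSup (CompOf.map hK _ hb)
  mov := by
    rw [Subgroup.map_le_iff_le_comap]
    refine h.mov.trans (moved_le_iff.mpr fun a ha => ?_)
    show QuotientGroup.mk' N (a * (α a)⁻¹) ∈ moved _ _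
    rw [map_mul, map_inv, ← quot_mk α N hN a]
    exact disp_mem_moved ⟨a, ha, rfl⟩

/-- The hypothesis passes to invariant subgroups containing `A`. -/
theorem Hyp.subgroupOf [Finite G] {α : MulAut G} {A H : Subgroup G} (h : Hyp α A) (hH : Inv α H)
    (hAH : A ≤ H) : Hyp (restrict α H hH) (A.subgroupOf H) where
  inv := fun a ha => h.inv _ ha
  norm := by
    intro x hx
    have hx' : α (x : G) = x := congrArg Subtype.val hx
    exact Subgroup.mem_normalizer_fintype fun a ha =>
      (Subgroup.mem_normalizer_iff.mp (h.norm hx') a).mp ha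
  semis := by
    intro a ha
    have ha' : (a : G) ∈ (sSup {K | CompOf (A.subgroupOf H) K}).map H.subtype := by
      revert ha
      suffices hle : A ≤ (sSup {K | CompOf (A.subgroupOf H) K}).map H.subtype from fun ha => hle ha
      refine h.semis.trans (sSup_le fun K hK => ?_)
      have hKH : K ≤ H := hK.1.trans hAH
      refine (Subgroup.map_subgroupOf_eq_of_le hKH).ge.trans (Subgroup.map_mono (le_sSup ?_))
      refine ⟨fun x hx => hK.1 hx, ?_⟩
      have he := Comp.isComponent_map_equiv (Subgroup.subgroupOfEquivOfLe hAH).symm hK.2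
      convert he using 1
      ext x
      constructor
      · exact fun hx => ⟨⟨x.1.1, x.2⟩, hx, rfl⟩
      · rintro ⟨y, hy, rfl⟩
        exact hy
    obtain ⟨b, hb, hba⟩ := ha'
    rwa [← Subtype.ext hba]
  mov := by
    intro a ha
    have hle : moved α A ≤ (moved (restrict α H hH) (A.subgroupOf H)).map H.subtype :=
      moved_le_iff.mpr fun x hx =>
        ⟨_, disp_mem_moved (α := restrict α H hH) (show (⟨x, hAH hx⟩ : H) ∈ A.subgroupOf H from hx),
          rfl⟩
    obtain ⟨b, hb, hba⟩ := hle (h.mov ha)
    rwa [← Subtype.ext hba]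

end H12.RComp
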