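import Mathlib
import Cfsg.Agent.H9.QT.Basic
import Cfsg.Agent.H12.RComp.Cent
import Cfsg.Agent.H12.RComp.Semis

/-!
The reduction modulo a normal abelian `p`-subgroup (helper12).
-/

set_option autoImplicit false

open scoped commutatorElement
open Cfsg

namespace H12.RComp

universe u

/-- The statement being proved, for all groups of order less than `n`. -/
def SmallerOK (r n : ℕ) : Prop :=
  ∀ (H : Type u) [Group H] [Finite H], Nat.card H < n → ∀ (β : MulAut H) (B : Subgroup H),
    Op r β → Hyp β B → B ≤ layer H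

variable {G : Type u} [Group G] [Finite G] {r : ℕ} [Fact r.Prime]

/-- A perfect subgroup of a join of commuting pieces, one of which it commutes with. -/
theorem perfect_le_left_of_commute {B P Q : Subgroup G} (hB : ⁅B, B⁆ = B)
    (hle : B ≤ P ⊔ Q) (hQP : Q ≤ Subgroup.normalizer (P : Set G))
    (hQB : Q ≤ Subgroup.centralizer (B : Set G)) : B ≤ P := by
  have hBP : B ≤ Subgroup.normalizer (P : Set G) := hle.trans (sup_le Subgroup.le_normalizer hQP)
  rw [← hB, Subgroup.commutator_le]
  intro a ha b hb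
  have hb' : b ∈ P ⊔ Q := hle hb
  rw [← SetLike.mem_coe, Subgroup.coe_mul_of_right_le_normalizer_left P Q hQP] at hb'
  obtain ⟨x, hx, y, hy, hxy⟩ := hb'
  simp only at hxy
  subst hxy
  have hc : a * y = y * a := Subgroup.mem_centralizer_iff.mp (hQB hy) a ha
  have he : ⁅a, x * y⁆ = a * x * a⁻¹ * x⁻¹ := by
    rw [commutatorElement_def]
    calc a * (x * y) * a⁻¹ * (x * y)⁻¹ = a * x * (y * a⁻¹) * y⁻¹ * x⁻¹ := by group
      _ = a * x * (a⁻¹ * y) * y⁻¹ * x⁻¹ := by
        rw [(Commute.inv_left hc).eq]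
      _ = _ := by group
  rw [he]
  exact P.mul_mem ((Subgroup.mem_normalizer_iff.mp (hBP ha) x).mp hx) (P.inv_mem hx)

/-- A component of `G ⧸ V` inside the image of `C(V)` is the image of a component of `G`. -/
theorem le_layer_map_of_component {V : Subgroup G} [hVn : V.Normal]
    (hVc : V ≤ Subgroup.centralizer (V : Set G)) {K : Subgroup (G ⧸ V)} (hK : IsComponent K)
    (hKer : K ≤ (Subgroup.centralizer (V : Set G)).map (QuotientGroup.mk' V)) :
    K ≤ (layer G).map (QuotientGroup.mk' V) := by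
  let π := QuotientGroup.mk' V
  let M : Subgroup G := K.comap π ⊓ Subgroup.centralizer (V : Set G)
  have hVM : V ≤ M := le_inf (fun v hv => by
    show π v ∈ K
    rw [show π v = 1 from (QuotientGroup.eq_one_iff v).mpr hv]
    exact one_mem K) hVc
  have hMs : M.IsSubnormal :=
    (hK.1.comap π).inf (inferInstance : (Subgroup.centralizer (V : Set G)).Normal).isSubnormal
  have hMmap : M.map π = K := le_antisymm
    ((Subgroup.map_mono inf_le_left).trans (Subgroup.map_comap_le _ _)) fun k hk => by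
      obtain ⟨c, hc, rfl⟩ := hKer hk
      exact ⟨c, ⟨hk, hc⟩, rfl⟩
  let L : Subgroup G := ⁅M, M⁆
  have hLmap : L.map π = K := by
    rw [Subgroup.map_commutator, hMmap, Comp.isComponent_perfect hK]
  have hMle : M ≤ L ⊔ V := by
    intro m hm
    have h1 : π m ∈ L.map π := by rw [hLmap, ← hMmap]; exact ⟨m, hm, rfl⟩
    obtain ⟨l, hl, hlm⟩ := h1
    have hv : l⁻¹ * m ∈ V := QuotientGroup.eq.mp hlm
    rw [show m = l * (l⁻¹ * m) by group]
    exact Subgroup.mul_mem_sup hl hv
  have hMV : M ≤ Subgroup.centralizer (V : Set G) := inf_le_right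
  have hLperf : ⁅L, L⁆ = L := by
    refine le_antisymm (Subgroup.commutator_le_self L) ?_
    show ⁅M, M⁆ ≤ ⁅L, L⁆
    rw [Subgroup.commutator_le]
    intro a ha b hb
    have hd : ∀ x ∈ M, ∃ l ∈ L, ∃ v ∈ V, l * v = x := fun x hx => by
      have hx' := hMle hx
      rwa [← SetLike.mem_coe, Subgroup.mul_normal] at hx'
    obtain ⟨l, hl, v, hv, rfl⟩ := hd a ha
    obtain ⟨l', hl', v', hv', rfl⟩ := hd b hb
    have c1 : ∀ x ∈ L, ∀ z ∈ V, Commute x z := fun x hx z hz =>
      (Comp.commute_of_le_centralizer hMV ((Subgroup.commutator_le_self M) hx) hz)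
    have c2 : Commute v v' := Comp.commute_of_le_centralizer hVc hv hv'
    have c3 := c1 l hl v' hv'
    have c4 := c1 l' hl' v hv
    have c5 := c1 l' hl' v' hv'
    have c6 := c1 l hl v hv
    have he : ⁅l * v, l' * v'⁆ = ⁅l, l'⁆ := by
      rw [commutatorElement_def, commutatorElement_def]
      calc l * v * (l' * v') * (l * v)⁻¹ * (l' * v')⁻¹
          = l * (v * l') * v' * v⁻¹ * l⁻¹ * v'⁻¹ * l'⁻¹ := by group
        _ = l * l' * (v * v') * v⁻¹ * l⁻¹ * v'⁻¹ * l'⁻¹ := by rw [c4.symm.eq]; group
        _ = l * l' * v' * l⁻¹ * v'⁻¹ * l'⁻¹ := by rw [c2.eq]; group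
        _ = l * l' * (v' * l⁻¹) * v'⁻¹ * l'⁻¹ := by group
        _ = _ := by rw [(c3.inv_left).symm.eq]; group
    rw [he]
    exact Subgroup.commutator_mem_commutator hl hl'
  have hLs : L.IsSubnormal := by
    rw [show L = (commutator ↥M).map M.subtype from (Subgroup.map_subtype_commutator M).symm]
    exact (inferInstance : (commutator ↥M).Normal).isSubnormal.trans' hMs
  have hLc : IsComponent L := by
    refine ⟨hLs, ?_⟩
    have hq : IsQuasisimple ↥(L.map π) := by rw [hLmap]; exact hK.2
    refine Comp.isQuasisimple_of_ker_le_center (isPerfect_subgroup hLperf) hq (π.subgroupMap L)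
      (π.subgroupMap_surjective L) fun x hx => Subgroup.mem_center_iff.mpr fun y => Subtype.ext ?_
    have hxV : (x : G) ∈ V := (QuotientGroup.eq_one_iff _).mp (congrArg Subtype.val hx)
    exact Comp.commute_of_le_centralizer hMV ((Subgroup.commutator_le_self M) y.2) hxV
  rw [← hLmap]
  exact Subgroup.map_mono (Comp.le_layer hLc)

variable {α : MulAut G} {A : Subgroup G}

/-- The case `F(G) ≠ 1`. -/
theorem caseA (hS : Shult.{u}) (hop : Op r α) (hA : Hyp α A)
    (ih : SmallerOK.{u} r (Nat.card G)) (hF : fittingSubgroup G ≠ ⊥) : A ≤ layer G := by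
  obtain ⟨p, hp, hP0⟩ : ∃ p : ℕ, p.Prime ∧ pCore p G ≠ ⊥ := by
    by_contra hne
    push Not at hne
    apply hF
    rw [Comp.fitting_eq_iSup_pCore]
    simp only [iSup_eq_bot]
    exact fun q => hne q q.2
  haveI := Fact.mk hp
  let P := pCore p G
  let V : Subgroup G := P ⊓ Subgroup.centralizer (P : Set G)
  haveI hPn : P.Normal := pCore_normal p G
  haveI hVn : V.Normal := inferInstanceAs (P ⊓ Subgroup.centralizer (P : Set G)).Normal
  have hVp : IsPGroup p V := (Comp.pCore_isPGroup p).to_le inf_le_left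
  have hVc : V ≤ Subgroup.centralizer (V : Set G) :=
    inf_le_right.trans (Subgroup.centralizer_le fun x hx => hx.1)
  have hVi : Inv α V := (Inv.of_characteristic α P).inf (Inv.of_characteristic α P).centralizer
  have hV0 : V ≠ ⊥ := by
    haveI : Nontrivial P := (Subgroup.nontrivial_iff_ne_bot P).mpr hP0
    haveI := (Comp.pCore_isPGroup p : IsPGroup p P).center_nontrivial
    obtain ⟨⟨z, hz⟩, hz1⟩ := exists_ne (1 : Subgroup.center P)
    intro hb
    have hzV : (z : G) ∈ V := ⟨z.2, Subgroup.mem_centralizer_iff.mpr fun y hy =>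
      congrArg Subtype.val (Subgroup.mem_center_iff.mp hz ⟨y, hy⟩)⟩
    rw [hb, Subgroup.mem_bot] at hzV
    exact hz1 (Subtype.ext (Subtype.ext hzV))
  -- `A` centralises the fixed points in `V`
  have hAV : A ≤ Subgroup.normalizer (V : Set G) := Comp.le_normalizer_of_normal
  have hVA : ⁅A, V ⊓ A⁆ = ⊥ := hA.commute_solvable inf_le_right
    (Comp.inf_le_normalizer hAV Subgroup.le_normalizer)
    (haveI := (hVp.to_inf_left (K := A)).isNilpotent; inferInstance)
  have hfix : fix α ⊓ V ≤ Subgroup.centralizer (A : Set G) := by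
    rw [← Subgroup.commutator_eq_bot_iff_le_centralizer, Subgroup.commutator_comm]
    refine Comp.commutator_eq_bot_of_perfect hA.perfect (le_bot_iff.mp ?_)
    refine le_trans ?_ hVA.le
    rw [Subgroup.commutator_comm A (fix α ⊓ V), Subgroup.commutator_comm A (V ⊓ A)]
    refine Subgroup.commutator_mono (le_inf ?_ ?_) le_rfl
    · exact (Subgroup.commutator_mono inf_le_right le_rfl).trans (Subgroup.commutator_le_left V A)
    · exact Subgroup.le_normalizer_iff_commutator_le_right.mp (inf_le_left.trans hA.norm)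
  have hAC : A ≤ Subgroup.centralizer (V : Set G) :=
    le_centralizer_of_fixed hS hop hVp hVi hA.inv hA.perfect hA.mov hAV
      fun v hv hv' => hfix ⟨hv', hv⟩
  -- the quotient
  have hlt : Nat.card (G ⧸ V) < Nat.card G := by
    rw [Subgroup.card_eq_card_quotient_mul_card_subgroup V]
    exact lt_mul_right Nat.card_pos ((Subgroup.one_lt_card_iff_ne_bot V).mpr hV0)
  have hA' := hA.map_quot hop V hVi
  have hle := ih (G ⧸ V) hlt _ _ (hop.quot V hVi) hA'
  let π := QuotientGroup.mk' V
  let B : Subgroup (G ⧸ V) := A.map π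
  let Ker : Subgroup (G ⧸ V) := (Subgroup.centralizer (V : Set G)).map π
  haveI hKern : Ker.Normal :=
    (inferInstance : (Subgroup.centralizer (V : Set G)).Normal).map π (QuotientGroup.mk'_surjective V)
  let P₁ : Subgroup (G ⧸ V) := sSup {K | IsComponent K ∧ K ≤ Ker}
  let P₂ : Subgroup (G ⧸ V) := sSup {K | IsComponent K ∧ ⁅K, Ker⁆ = ⊥}
  have hB1 : B ≤ P₁ := by
    refine perfect_le_left_of_commute (by rw [← Subgroup.map_commutator, hA.perfect])
      (hle.trans (Comp.layer_le_iff.mpr fun K hK => ?_)) ?_ ?_ (Q := P₂)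
    · rcases Comp.component_le_or_commute hK hKern.isSubnormal with h | h
      · exact le_sup_of_le_left (le_sSup ⟨hK, h⟩)
      · exact le_sup_of_le_right (le_sSup ⟨hK, h⟩)
    · refine sSup_le fun K hK => ?_
      refine le_trans ?_ (Subgroup.centralizer_le_normalizer _)
      refine Subgroup.le_centralizer_iff.mp (sSup_le fun K' hK' => ?_)
      exact (hK'.2).trans (Subgroup.le_centralizer_iff.mp
        (Subgroup.commutator_eq_bot_iff_le_centralizer.mp hK.2))
    · refine sSup_le fun K hK => ?_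
      exact (Subgroup.commutator_eq_bot_iff_le_centralizer.mp hK.2).trans
        (Subgroup.centralizer_le (Subgroup.map_mono hAC))
  have hP1 : P₁ ≤ (layer G).map π := sSup_le fun K hK => le_layer_map_of_component hVc hK.1 hK.2
  have hAle : A ≤ layer G ⊔ V := by
    intro a ha
    obtain ⟨l, hl, hla⟩ := hP1 (hB1 ⟨a, ha, rfl⟩)
    rw [show a = l * (l⁻¹ * a) by group]
    exact Subgroup.mul_mem_sup hl (QuotientGroup.eq.mp hla)
  haveI := hVp.isNilpotent
  exact Cfsg.Agent.H9.QT.perfect_le_of_le_sup hA.perfect (inferInstance : Group.IsSolvable V)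
    (inferInstance : (layer G).Normal).isSubnormal hAle

end H12.RComp
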