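import Mathlib
import Cfsg.Agent.H12.RComp.Semis

/-!
When `F(G) = 1`, an invariant subgroup centralising the fixed points in `E(G)` normalises every
component, and centralises those moved by the automorphism (helper12).
-/

set_option autoImplicit false

open scoped commutatorElement Pointwise
open Cfsg

namespace H12.RComp

variable {G : Type*} [Group G] [Finite G]

theorem smul_eq_map (φ : MulAut G) (H : Subgroup G) : φ • H = H.map φ.toMonoidHom := rfl

theorem isComponent_smul {S : Subgroup G} (hS : IsComponent S) (φ : MulAut G) :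
    IsComponent (φ • S) := by
  rw [smul_eq_map]
  exact Comp.isComponent_map_equiv φ hS

theorem smul_eq_self_iff_inv {α : MulAut G} {S : Subgroup G} : α • S = S ↔ Inv α S := by
  refine ⟨fun h a ha => ?_, fun h => h.map_eq⟩
  exact h.le (Subgroup.smul_mem_pointwise_smul a α S ha)

section FittingBot

variable (hF : fittingSubgroup G = ⊥)
include hF

theorem comp_center_bot {S : Subgroup G} (hS : IsComponent S) : Subgroup.center ↥S = ⊥ := by
  apply (Subgroup.map_eq_bot_iff_of_injective _ S.subtype_injective).mp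
  refine le_bot_iff.mp (hF ▸ Comp.le_fitting_of_subnormal
    ((inferInstance : (Subgroup.center ↥S).Normal).isSubnormal.trans' hS.1) ?_)
  haveI : Group.IsNilpotent ↥(Subgroup.center ↥S) := by
    letI : CommGroup ↥(Subgroup.center ↥S) :=
      { (inferInstance : Group ↥(Subgroup.center ↥S)) with
        mul_comm := fun a b => Subtype.ext (Subgroup.mem_center_iff.mp b.2 a) }
    infer_instance
  exact Group.nilpotent_of_mulEquiv
    (Subgroup.equivMapOfInjective (Subgroup.center ↥S) S.subtype S.subtype_injective)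

theorem comp_eq_one_of_central {S : Subgroup G} (hS : IsComponent S) {s : G} (hs : s ∈ S)
    (hc : ∀ y ∈ S, y * s = s * y) : s = 1 := by
  have h : (⟨s, hs⟩ : ↥S) ∈ Subgroup.center ↥S :=
    Subgroup.mem_center_iff.mpr fun y => Subtype.ext (hc y y.2)
  rw [comp_center_bot hF hS, Subgroup.mem_bot] at h
  exact congrArg Subtype.val h

theorem comp_simple {S : Subgroup G} (hS : IsComponent S) : IsSimpleGroup ↥S := by
  haveI := Comp.nontrivial_of_quasisimple hS.2
  refine ⟨fun N hN => ?_⟩
  rcases Comp.normal_eq_top_or_le_center hS.2 hN with h | h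
  · exact .inr h
  · exact .inl (le_bot_iff.mp (comp_center_bot hF hS ▸ h))

theorem comp_inf_eq_bot {S S' : Subgroup G} (hS : IsComponent S) (hS' : IsComponent S')
    (hne : S ≠ S') : S ⊓ S' = ⊥ := by
  refine le_bot_iff.mp fun x hx => Subgroup.mem_bot.mpr (comp_eq_one_of_central hF hS hx.1 ?_)
  intro y hy
  exact Comp.commute_of_commutator_eq_bot ((Comp.component_eq_or_commute hS hS').resolve_left hne)
    hy hx.2

theorem centralizer_layer_bot : Subgroup.centralizer (layer G : Set G) = ⊥ := by
  set C := Subgroup.centralizer (layer G : Set G)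
  have hgf : generalizedFittingSubgroup G = layer G := by
    rw [generalizedFittingSubgroup, hF, sup_bot_eq]
  have hC : C ≤ layer G := by
    have := Comp.centralizer_fStar_le (G := G)
    rwa [hgf] at this
  haveI hCc : IsMulCommutative C := Subgroup.le_centralizer_iff_isMulCommutative.mp
    fun x hx => Subgroup.mem_centralizer_iff.mpr fun y hy =>
      (Subgroup.mem_centralizer_iff.mp hy x (hC hx)).symm
  refine le_bot_iff.mp (hF ▸ Comp.le_fittingSubgroup (inferInstance : C.Normal) ?_)
  letI : CommGroup C := { (inferInstance : Group C) with mul_comm := fun a b => mul_comm' a b }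
  infer_instance

end FittingBot

variable {r : ℕ} [hr : Fact r.Prime]

theorem pow_smul_ne {α : MulAut G} (hα : α ^ r = 1) {S : Subgroup G} (hmv : α • S ≠ S) {i : ℕ}
    (hi : ¬ r ∣ i) : α ^ i • S ≠ S := by
  intro h
  apply hmv
  have h1 : α ≠ 1 := fun h1 => hmv (by rw [h1, one_smul])
  have hco : Nat.Coprime i (orderOf α) := by
    rw [orderOf_eq_prime hα h1]
    exact (hr.out.coprime_iff_not_dvd.mpr hi).symm
  obtain ⟨m, hm⟩ := exists_pow_eq_self_of_coprime hco
  have hst : α ^ i ∈ MulAction.stabilizer (MulAut G) S := h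
  have := pow_mem hst m
  rwa [hm] at this

/-- The product of the images of `s`, fixed when they commute. -/
def diag (α : MulAut G) (s : G) (k : ℕ) : G := ((List.range k).map fun i => (α ^ i) s).prod

theorem diag_succ (α : MulAut G) (s : G) (k : ℕ) :
    diag α s (k + 1) = diag α s k * (α ^ k) s := by
  simp [diag, List.range_succ]

theorem mul_apply_diag (α : MulAut G) (s : G) (k : ℕ) :
    s * α (diag α s k) = diag α s (k + 1) := by
  induction k with
  | zero => simp [diag]
  | succ k ih =>
    rw [diag_succ, map_mul, ← mul_assoc, ih, diag_succ α s (k + 1), pow_succ', MulAut.mul_apply]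

variable {α : MulAut G} {A : Subgroup G}

/-- A component moved by `α` is normalised and centralised by `A`. -/
theorem centralizes_moved_component (hF : fittingSubgroup G = ⊥) (hop : Op r α) (hA : Inv α A)
    (hfix : ∀ x ∈ layer G, α x = x → x ∈ Subgroup.centralizer (A : Set G))
    {S : Subgroup G} (hS : IsComponent S) (hmv : α • S ≠ S) :
    A ≤ Subgroup.centralizer (S : Set G) := by
  obtain ⟨m, hm⟩ : ∃ m, r = m + 1 := ⟨r - 1, (Nat.sub_add_cancel hr.out.one_le).symm⟩
  let T : ∀ _ : Subgroup G, Subgroup G := fun S =>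
    sSup {K | ∃ i : ℕ, ¬ r ∣ i ∧ K = α ^ i • S}
  have hTC : ∀ S, IsComponent S → α • S ≠ S → T S ≤ Subgroup.centralizer (S : Set G) :=
    fun S hS hmv => sSup_le fun K ⟨i, hi, hK⟩ => Subgroup.commutator_eq_bot_iff_le_centralizer.mp
      ((Comp.component_eq_or_commute (hK ▸ isComponent_smul hS (α ^ i)) hS).resolve_left
        (hK ▸ pow_smul_ne hop.1 hmv hi))
  -- the fixed diagonal element of `s`
  have hdiag : ∀ S : Subgroup G, IsComponent S → α • S ≠ S → ∀ s ∈ S, ∃ t ∈ T S, s * t ∈ layer G ∧
      ∀ a ∈ A, a * (s * t) * a⁻¹ = s * t := by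
    intro S hS hmv s hs
    have hT : ∀ k, k ≤ m → α (diag α s k) ∈ T S := by
      intro k hk
      induction k with
      | zero => simp [diag]
      | succ k ih =>
        rw [diag_succ, map_mul, ← MulAut.mul_apply, ← pow_succ']
        refine (T S).mul_mem (ih (Nat.le_of_succ_le hk)) ?_
        have hle : α ^ (k + 1) • S ≤ T S :=
          le_sSup ⟨k + 1, fun hd => by have := Nat.le_of_dvd (Nat.succ_pos k) hd; omega, rfl⟩
        exact hle (Subgroup.smul_mem_pointwise_smul s (α ^ (k+1)) S hs)
    refine ⟨α (diag α s m), hT m le_rfl, ?_, ?_⟩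
    · refine (layer G).mul_mem (Comp.le_layer hS hs) ?_
      have hle : T S ≤ layer G := sSup_le fun K ⟨i, _, hK⟩ =>
        Comp.le_layer (hK ▸ isComponent_smul hS (α ^ i))
      exact hle (hT m le_rfl)
    · have hd : s * α (diag α s m) = diag α s r := by rw [mul_apply_diag, hm]
      have hc : α (diag α s m) * s = s * α (diag α s m) :=
        Comp.commute_of_le_centralizer (hTC S hS hmv) (hT m le_rfl) hs
      have hfx : α (s * α (diag α s m)) = s * α (diag α s m) := by
        have h1 : s * α (diag α s r) = diag α s r * s := by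
          rw [mul_apply_diag, diag_succ, hop.1]
          rfl
        rw [← hd] at h1
        rw [mul_assoc, hc] at h1
        exact mul_left_cancel h1
      have hmem : s * α (diag α s m) ∈ layer G := by
        refine (layer G).mul_mem (Comp.le_layer hS hs) ?_
        have hle : T S ≤ layer G := sSup_le fun K ⟨i, _, hK⟩ =>
          Comp.le_layer (hK ▸ isComponent_smul hS (α ^ i))
        exact hle (hT m le_rfl)
      intro a ha
      rw [Subgroup.mem_centralizer_iff.mp (hfix _ hmem hfx) a ha, mul_inv_cancel_right]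
  -- `A` maps `S` into its orbit
  have horb : ∀ S : Subgroup G, IsComponent S → α • S ≠ S → ∀ a ∈ A, ∃ i : ℕ, MulAut.conj a • S = α ^ i • S := by
    intro S hS hmv a ha
    by_contra hne
    push Not at hne
    haveI : Nontrivial ↥S := Comp.nontrivial_of_quasisimple hS.2
    obtain ⟨⟨s, hs⟩, hs1⟩ := exists_ne (1 : ↥S)
    obtain ⟨t, ht, -, hat⟩ := hdiag S hS hmv s hs
    set S' := MulAut.conj a • S with hS'
    have hS'c : IsComponent S' := isComponent_smul hS _
    have hcomm : ∀ i : ℕ, α ^ i • S ≤ Subgroup.centralizer (S' : Set G) := fun i =>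
      Subgroup.commutator_eq_bot_iff_le_centralizer.mp
        ((Comp.component_eq_or_commute (isComponent_smul hS _) hS'c).resolve_left (hne i).symm)
    have hst : s * t ∈ Subgroup.centralizer (S' : Set G) := by
      refine Subgroup.mul_mem _ (hcomm 0 ?_) ((sSup_le ?_ : T S ≤ _) ht)
      · rw [pow_zero, one_smul]; exact hs
      · rintro K ⟨i, -, rfl⟩
        exact hcomm i
    have hy : ∀ y ∈ S', y * (a * s * a⁻¹) = (a * s * a⁻¹) * y := by
      intro y hy
      have h1 : y * (s * t) = (s * t) * y := Subgroup.mem_centralizer_iff.mp hst y hy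
      rw [← hat a ha, ← conj_mul] at h1
      obtain ⟨y₀, hy₀, hy0⟩ : y ∈ S.map (MulAut.conj a).toMonoidHom := hy
      have hy0' : a * y₀ * a⁻¹ = y := hy0
      have h2 : (a * t * a⁻¹) * y = y * (a * t * a⁻¹) := by
        rw [← hy0', conj_mul, conj_mul, Comp.commute_of_le_centralizer (hTC S hS hmv) ht hy₀]
      refine mul_right_cancel (b := a * t * a⁻¹) ?_
      calc y * (a * s * a⁻¹) * (a * t * a⁻¹) = y * ((a * s * a⁻¹) * (a * t * a⁻¹)) := mul_assoc _ _ _
        _ = (a * s * a⁻¹) * (a * t * a⁻¹) * y := h1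
        _ = (a * s * a⁻¹) * ((a * t * a⁻¹) * y) := mul_assoc _ _ _
        _ = (a * s * a⁻¹) * (y * (a * t * a⁻¹)) := by rw [h2]
        _ = (a * s * a⁻¹) * y * (a * t * a⁻¹) := (mul_assoc _ _ _).symm
    have h3 := comp_eq_one_of_central hF hS'c (Subgroup.smul_mem_pointwise_smul s (MulAut.conj a) S hs) hy
    exact hs1 (Subtype.ext ((map_eq_one_iff _ (MulAut.conj a).injective).mp h3))
  -- no element of `A` moves a moved component
  have hnorm : ∀ S : Subgroup G, IsComponent S → α • S ≠ S → ∀ a ∈ A, MulAut.conj a • S = S := by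
    intro S hS hmv a ha
    by_contra hne
    obtain ⟨i, hi⟩ := horb S hS hmv a ha
    have hri : ¬ r ∣ i := by
      rintro ⟨c, rfl⟩
      rw [pow_mul, hop.1, one_pow, one_smul] at hi
      exact hne hi
    let Z := Subgroup.zpowers α
    let Φ : ↥A →* MulAut G := MulAut.conj.comp A.subtype
    have hα1 : α ≠ 1 := fun h => hmv (by rw [h, one_smul])
    have hcard : Nat.card Z = r := by rw [Nat.card_zpowers, orderOf_eq_prime hop.1 hα1]
    have hZorb : (MulAction.orbit ↥Z S).ncard = r := by
      have h1 := Subgroup.index_dvd_card (MulAction.stabilizer ↥Z S)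
      rw [MulAction.index_stabilizer, hcard] at h1
      refine ((Nat.dvd_prime hr.out).mp h1).resolve_left fun h2 => ?_
      obtain ⟨K, hK⟩ := Set.ncard_eq_one.mp h2
      have h3 : α • S ∈ MulAction.orbit ↥Z S := ⟨⟨α, Subgroup.mem_zpowers α⟩, rfl⟩
      have h4 := MulAction.mem_orbit_self (M := ↥Z) S
      rw [hK, Set.mem_singleton_iff] at h3 h4
      exact hmv (h3.trans h4.symm)
    -- the translates `α ^ (i*m)` are reached by `A`
    have hreach : ∀ m : ℕ, ∃ b ∈ A, MulAut.conj b • S = α ^ (i * m) • S := by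
      intro m
      induction m with
      | zero => exact ⟨1, A.one_mem, by simp⟩
      | succ m ih =>
        obtain ⟨b, hb, hbe⟩ := ih
        refine ⟨(α ^ (i * m)) a * b, A.mul_mem (pow_apply_mem hA ha _) hb, ?_⟩
        rw [map_mul, mul_smul, hbe, Nat.mul_succ, pow_add, mul_smul (α ^ (i * m)) (α ^ i) S, ← hi,
          ← mul_smul, ← mul_smul]
        congr 1
        ext x
        simp
    have hall : ∀ k : ℕ, ∃ b ∈ A, MulAut.conj b • S = α ^ k • S := by
      intro k
      have hco : Nat.Coprime i (orderOf α) := by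
        rw [orderOf_eq_prime hop.1 hα1]
        exact (hr.out.coprime_iff_not_dvd.mpr hri).symm
      obtain ⟨n, hn⟩ := exists_pow_eq_self_of_coprime hco
      obtain ⟨b, hb, hbe⟩ := hreach (n * k)
      refine ⟨b, hb, hbe.trans ?_⟩
      rw [← mul_assoc, pow_mul, pow_mul, hn]
    have heq : MulAction.orbit ↥Φ.range S = MulAction.orbit ↥Z S := by
      ext K
      constructor
      · rintro ⟨⟨_, ⟨b, rfl⟩⟩, rfl⟩
        obtain ⟨j, hj⟩ := horb S hS hmv b b.2
        exact ⟨⟨α ^ j, pow_mem (Subgroup.mem_zpowers α) j⟩, hj.symm⟩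
      · rintro ⟨⟨z, hz⟩, rfl⟩
        obtain ⟨k, rfl⟩ := Submonoid.mem_powers_iff _ _ |>.mp
          ((mem_powers_iff_mem_zpowers (x := α)).mpr hz)
        obtain ⟨b, hb, hbe⟩ := hall k
        exact ⟨⟨Φ ⟨b, hb⟩, ⟨b, hb⟩, rfl⟩, hbe⟩
    apply hop.2
    rw [← hZorb, ← heq, ← MulAction.index_stabilizer]
    exact (Subgroup.index_dvd_card _).trans
      ((Subgroup.card_dvd_of_surjective Φ.rangeRestrict Φ.rangeRestrict_surjective).trans
        A.card_subgroup_dvd_card)
  intro a ha
  refine Subgroup.mem_centralizer_iff.mpr fun s hs => ?_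
  obtain ⟨t, ht, -, hat⟩ := hdiag S hS hmv s hs
  have hs' : a * s * a⁻¹ ∈ S := (hnorm S hS hmv a ha).le (Subgroup.smul_mem_pointwise_smul s (MulAut.conj a) S hs)
  have hTa : ∀ x ∈ T S, a * x * a⁻¹ ∈ T S := by
    have hle : T S ≤ (T S).comap (MulAut.conj a).toMonoidHom := sSup_le fun K ⟨i, hi, hK⟩ x hx => by
      have hKT : K ≤ T S := le_sSup ⟨i, hi, hK⟩
      refine Subgroup.mem_comap.mpr (hKT ?_)
      refine (hnorm K (hK ▸ isComponent_smul hS _) ?_ a ha).le (Subgroup.smul_mem_pointwise_smul x (MulAut.conj a) K hx)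
      rw [hK, ← mul_smul, ← pow_succ', pow_succ, mul_smul]
      exact fun h => hmv ((MulAction.injective (α ^ i)) h)
    exact fun x hx => hle hx
  have hd := hat a ha
  rw [← conj_mul] at hd
  have hq : s⁻¹ * (a * s * a⁻¹) ∈ T S := by
    have : s⁻¹ * (a * s * a⁻¹) = t * (a * t * a⁻¹)⁻¹ := by
      rw [eq_mul_inv_iff_mul_eq, mul_assoc, hd, inv_mul_cancel_left]
    rw [this]
    exact (T S).mul_mem ht ((T S).inv_mem (hTa t ht))
  have h1 := comp_eq_one_of_central hF hS (S.mul_mem (S.inv_mem hs) hs') fun y hy =>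
    (Comp.commute_of_le_centralizer (hTC S hS hmv) hq hy).symm
  rw [inv_mul_eq_one] at h1
  exact (mul_inv_eq_iff_eq_mul.mp h1.symm).symm

/-- An invariant component is normalised by `A`. -/
theorem normalizes_fixed_component (hF : fittingSubgroup G = ⊥) (hop : Op r α)
    (hfix : ∀ x ∈ layer G, α x = x → x ∈ Subgroup.centralizer (A : Set G))
    {S : Subgroup G} (hS : IsComponent S) (hSi : Inv α S) :
    A ≤ Subgroup.normalizer (S : Set G) := by
  obtain ⟨d, hd, hdf, hd1⟩ : ∃ d ∈ S, α d = d ∧ d ≠ 1 := by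
    by_contra hne
    push Not at hne
    let β := restrict α S hSi
    have hfpf : ∀ x : ↥S, β x = x → x = 1 := fun x hx =>
      Subtype.ext (hne x x.2 (congrArg Subtype.val hx))
    haveI := Comp.nontrivial_of_quasisimple hS.2
    have hβ1 : β ≠ 1 := by
      intro h
      obtain ⟨x, hx⟩ := exists_ne (1 : ↥S)
      exact hx (hfpf x (by rw [h]; rfl))
    haveI := Cfsg.Agent.S0033.result β (fun q hq => hfpf q hq) r hr.out
      (orderOf_eq_prime (hop.restrict S hSi).1 hβ1)
    exact Comp.isComponent_not_isSolvable hS inferInstance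
  intro a ha
  apply Comp.mem_normalizer_of_map_conj_eq
  by_contra hne
  refine hd1 (Subgroup.mem_bot.mp ((comp_inf_eq_bot hF (Comp.isComponent_conj hS a) hS hne) ▸
    (⟨⟨d, hd, ?_⟩, hd⟩ : d ∈ S.map (MulAut.conj a).toMonoidHom ⊓ S)))
  show a * d * a⁻¹ = d
  rw [Subgroup.mem_centralizer_iff.mp (hfix d (Comp.le_layer hS hd) hdf) a ha, mul_inv_cancel_right]

end H12.RComp
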