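import Mathlib
import Cfsg.Agent.S0205
import Cfsg.Agent.H3.OutSolvable
import Cfsg.Agent.H12.RComp.CaseA
import Cfsg.Agent.H12.RComp.Permute

/-!
When `F(G) = 1`, a subgroup satisfying the hypothesis and centralising the fixed points in `E(G)`
centralises every component (helper12).
-/

set_option autoImplicit false

open scoped commutatorElement Pointwise
open Cfsg

namespace H12.RComp

universe u

variable {G : Type u} [Group G] [Finite G]

theorem oddOrderSolvable : H3.AutFixSylow.OddOrderSolvable.{u} := fun _ _ _ h =>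
  Cfsg.Agent.S0205.result h

theorem sylow_two_ne_bot (hF : fittingSubgroup G = ⊥) {S : Subgroup G} (hS : IsComponent S)
    (P : Sylow 2 ↥S) : (P : Subgroup ↥S) ≠ ⊥ := by
  haveI := Fact.mk Nat.prime_two
  intro hb
  refine Comp.isComponent_not_isSolvable hS (oddOrderSolvable _ ?_)
  rw [Nat.odd_iff, ← Nat.two_dvd_ne_zero]
  intro hd
  exact P.ne_bot_of_dvd_card hd hb

/-- A perfect group normalising a component and centralising one of its Sylow 2-subgroups
centralises it. -/
theorem le_centralizer_of_fix_sylow (hF : fittingSubgroup G = ⊥) {S : Subgroup G}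
    (hS : IsComponent S) {B : Subgroup G} (hB : ⁅B, B⁆ = B)
    (hBS : B ≤ Subgroup.normalizer (S : Set G)) (P : Sylow 2 ↥S)
    (hP : B ≤ Subgroup.centralizer ((P : Subgroup ↥S).map S.subtype : Set G)) :
    B ≤ Subgroup.centralizer (S : Set G) := by
  haveI := comp_simple hF hS
  have hnc := Comp.not_isMulCommutative_of_quasisimple hS.2
  have hsol := H3.AutFixSylow.solvable_fixAut oddOrderSolvable
    (H3.AutFixSylow.simple_oddCore_eq_bot P (sylow_two_ne_bot hF hS P))
    (H3.AutFixSylow.simple_center_eq_bot hnc) P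
  let ρ : ↥B →* MulAut ↥S := (Subgroup.normalizerMonoidHom S).comp (Subgroup.inclusion hBS)
  have hρ : ∀ (b : B) (v : S), (ρ b v : G) = b * v * (b : G)⁻¹ := fun _ _ => rfl
  have hle : ρ.range ≤ H3.AutFixSylow.fixAut (P : Subgroup ↥S) := by
    rintro _ ⟨b, rfl⟩ x hx
    apply Subtype.ext
    rw [hρ, ← Subgroup.mem_centralizer_iff.mp (hP b.2) (x : G) ⟨x, hx, rfl⟩, mul_inv_cancel_right]
  have h1 := eq_one_of_perfect_range (isPerfect_subgroup hB) ρ
    (Group.isSolvable_of_isSolvable_injective (Subgroup.inclusion_injective hle))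
  intro b hb
  rw [Subgroup.mem_centralizer_iff]
  intro v hv
  have h2 : (ρ ⟨b, hb⟩ ⟨v, hv⟩ : G) = v := by rw [h1]; rfl
  rw [hρ] at h2
  exact (mul_inv_eq_iff_eq_mul.mp h2).symm

theorem normalizer_ne_top (hF : fittingSubgroup G = ⊥) {P : Subgroup G} {p : ℕ} [Fact p.Prime]
    (hP : IsPGroup p P) (hP0 : P ≠ ⊥) : Subgroup.normalizer (P : Set G) ≠ ⊤ := by
  intro h
  haveI := hP.isNilpotent
  exact hP0 (le_bot_iff.mp (hF ▸ Comp.le_fittingSubgroup
    (Subgroup.normalizer_eq_top_iff.mp h) inferInstance))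

variable {r : ℕ} [Fact r.Prime] {α : MulAut G} {A : Subgroup G}

/-- An invariant component with a fixed involution: `A` centralises it. -/
theorem centralizes_component_even (hF : fittingSubgroup G = ⊥) (hop : Op r α) (hA : Hyp α A)
    (ih : SmallerOK.{u} r (Nat.card G)) {S : Subgroup G} (hS : IsComponent S) (hSi : Inv α S)
    (hAS : A ≤ Subgroup.normalizer (S : Set G))
    (hfix : fix α ⊓ S ≤ Subgroup.centralizer (A : Set G))
    (heven : 2 ∣ Nat.card ↥(fix α ⊓ S)) : A ≤ Subgroup.centralizer (S : Set G) := by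
  haveI := Fact.mk Nat.prime_two
  let W : Subgroup G := S ⊓ Subgroup.centralizer (A : Set G)
  have hWi : Inv α W := hSi.inf hA.inv.centralizer
  obtain ⟨P, hPi⟩ := exists_inv_sylow_le hop 2 W hWi
  set PG := (P : Subgroup ↥W).map W.subtype with hPG
  have hPp : IsPGroup 2 PG := P.isPGroup'.map _
  have hP0 : PG ≠ ⊥ := by
    intro hb
    refine P.ne_bot_of_dvd_card (heven.trans (Subgroup.card_dvd_of_le (le_inf inf_le_right hfix))) ?_
    exact (Subgroup.map_eq_bot_iff_of_injective _ W.subtype_injective).mp hb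
  have hPW : PG ≤ W := Subgroup.map_subtype_le _
  let N : Subgroup G := Subgroup.normalizer (PG : Set G)
  have hNi : Inv α N := hPi.normalizer
  have hAN : A ≤ N := (Subgroup.le_centralizer_iff.mp (hPW.trans inf_le_right)).trans
    (Subgroup.centralizer_le_normalizer _)
  have hlt : Nat.card N < Nat.card G := lt_of_le_of_ne (Subgroup.card_le_card_group N)
    fun h => normalizer_ne_top hF hPp hP0 (N.eq_top_of_card_eq h)
  have hAle := ih ↥N hlt _ _ (hop.restrict N hNi) (hA.subgroupOf hNi hAN)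
  have hAle' : A ≤ sSup {K | CompOf N K} := by
    rw [← layer_map_eq_sSup, ← Subgroup.map_subgroupOf_eq_of_le hAN]
    exact Subgroup.map_mono hAle
  let M : Subgroup G := S ⊓ N
  let C : Subgroup G := N ⊓ Subgroup.centralizer (M : Set G)
  have hMi : Inv α M := hSi.inf hNi
  have hCi : Inv α C := hNi.inf hMi.centralizer
  have hAMC : A ≤ M ⊔ C := by
    refine hAle'.trans (sSup_le fun K hK => ?_)
    have hsn : (M.subgroupOf N).IsSubnormal := by
      rw [Subgroup.inf_subgroupOf_right]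
      exact hS.1.subgroupOf
    rcases CompOf.le_or_commute hK (inf_le_right : M ≤ N) hsn with h | h
    · exact le_sup_of_le_left h
    · exact le_sup_of_le_right (le_inf hK.1 (Subgroup.commutator_eq_bot_iff_le_centralizer.mp h))
  have hAC : A ≤ C := perfect_le_of_le_sup_fixed hop hA.perfect hA.inv hMi hCi
    (Subgroup.le_centralizer_iff.mp inf_le_right) hAMC fun m hm hm' => hfix ⟨hm', hm.1⟩
  have hMW : M ≤ W :=
    le_inf inf_le_left (Subgroup.le_centralizer_iff.mp (hAC.trans inf_le_right))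
  -- `PG` is a Sylow subgroup of `S`
  have hPS : PG ≤ S := hPW.trans inf_le_left
  obtain ⟨Q, hQ⟩ := (hPp.of_equiv (Subgroup.subgroupOfEquivOfLe hPS).symm).exists_le_sylow
  set QG := (Q : Subgroup ↥S).map S.subtype with hQG
  have hPQ : PG ≤ QG := fun x hx => ⟨⟨x, hPS hx⟩, hQ (show (⟨x, hPS hx⟩ : ↥S) ∈ PG.subgroupOf S from hx), rfl⟩
  have hQp : IsPGroup 2 QG := Q.isPGroup'.map _
  have hEq : PG = QG := by
    by_contra hne
    haveI := hQp.isNilpotent
    have hlt' : PG.subgroupOf QG < ⊤ := by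
      rw [lt_top_iff_ne_top, Ne, Subgroup.subgroupOf_eq_top]
      exact fun h => hne (le_antisymm hPQ h)
    obtain ⟨x, hxn, hxP⟩ := SetLike.exists_of_lt
      (Group.normalizerCondition_of_isNilpotent (PG.subgroupOf QG) hlt')
    have hxN : (x : G) ∈ N := by
      refine Subgroup.mem_normalizer_fintype fun y hy => ?_
      exact (Subgroup.mem_normalizer_iff.mp hxn ⟨y, hPQ hy⟩).mp hy
    have hxW : (x : G) ∈ W := hMW ⟨Subgroup.map_subtype_le _ x.2, hxN⟩
    have hle : (QG.subgroupOf W) ⊓ (Subgroup.closure ((PG.subgroupOf W : Set ↥W) ∪ {⟨x, hxW⟩})) =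
        Subgroup.closure ((PG.subgroupOf W : Set ↥W) ∪ {⟨x, hxW⟩}) := by
      refine inf_eq_right.mpr ((Subgroup.closure_le _).mpr ?_)
      rintro y (hy | rfl)
      · exact hPQ hy
      · exact x.2
    have hp2 : IsPGroup 2 ↥(QG.subgroupOf W) :=
      hQp.of_injective ((W.subtype.comp (QG.subgroupOf W).subtype).codRestrict QG fun y => y.2)
        fun u v huv => Subtype.ext (Subtype.ext (congrArg Subtype.val huv :))
    have hp3 : IsPGroup 2 ↥(Subgroup.closure ((PG.subgroupOf W : Set ↥W) ∪ {⟨x, hxW⟩})) :=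
      hle ▸ hp2.to_inf_left
    have hPle : (P : Subgroup ↥W) ≤ Subgroup.closure ((PG.subgroupOf W : Set ↥W) ∪ {⟨x, hxW⟩}) :=
      fun y hy => Subgroup.subset_closure (Or.inl (show (y : G) ∈ PG from ⟨y, hy, rfl⟩))
    have hx' : (⟨x, hxW⟩ : ↥W) ∈ (P : Subgroup ↥W) := by
      rw [← P.is_maximal' hp3 hPle]
      exact Subgroup.subset_closure (Or.inr rfl)
    exact hxP (show (x : G) ∈ PG from ⟨_, hx', rfl⟩)
  refine le_centralizer_of_fix_sylow hF hS hA.perfect hAS Q ?_
  rw [← hQG, ← hEq]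
  exact Subgroup.le_centralizer_iff.mp (hPW.trans inf_le_right)

/-- An invariant component without fixed involution: `A` centralises it. -/
theorem centralizes_component_odd (hSh : Shult.{u}) (hF : fittingSubgroup G = ⊥) (hop : Op r α)
    (hA : Hyp α A) {S : Subgroup G} (hS : IsComponent S) (hSi : Inv α S)
    (hAS : A ≤ Subgroup.normalizer (S : Set G))
    (hfix : fix α ⊓ S ≤ Subgroup.centralizer (A : Set G))
    (hodd : ¬ 2 ∣ Nat.card ↥(fix α ⊓ S)) : A ≤ Subgroup.centralizer (S : Set G) := by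
  haveI := Fact.mk Nat.prime_two
  obtain ⟨T', hTi⟩ := exists_inv_sylow_le hop 2 S hSi
  set T := (T' : Subgroup ↥S).map S.subtype with hT
  have hTp : IsPGroup 2 T := T'.isPGroup'.map _
  have hTS : T ≤ S := Subgroup.map_subtype_le _
  let N : Subgroup G := Subgroup.normalizer (T : Set G) ⊓ Subgroup.normalizer (S : Set G)
  -- Frattini argument
  have hfr : A ≤ N ⊔ S := by
    intro a ha
    let φ : MulAut ↥S := Subgroup.normalizerMonoidHom S ⟨a, hAS ha⟩
    obtain ⟨s, hs⟩ := MulAction.exists_smul_eq ↥S T' (φ • T')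
    have hn : (s : G)⁻¹ * a ∈ N := by
      refine ⟨Subgroup.mem_normalizer_fintype ?_, (Subgroup.normalizer (S : Set G)).mul_mem
        (Subgroup.inv_mem _ (Subgroup.le_normalizer s.2)) (hAS ha)⟩
      rintro _ ⟨x, hx, rfl⟩
      have h1 : φ x ∈ ((s • T' : Sylow 2 ↥S) : Subgroup ↥S) := by
        rw [hs]
        exact Subgroup.smul_mem_pointwise_smul x φ _ hx
      obtain ⟨y, hy, hyx⟩ := (h1 : φ x ∈ (T' : Subgroup ↥S).map (MulAut.conj s).toMonoidHom)
      refine ⟨y, hy, ?_⟩
      have h2 : (s : G) * y * (s : G)⁻¹ = a * x * a⁻¹ := congrArg Subtype.val hyx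
      show (y : G) = _
      calc (y : G) = (s : G)⁻¹ * ((s : G) * y * (s : G)⁻¹) * s := by group
        _ = (s : G)⁻¹ * (a * x * a⁻¹) * s := by rw [h2]
        _ = _ := by simp [mul_assoc]
    rw [show a = (s : G) * ((s : G)⁻¹ * a) by group, sup_comm]
    exact Subgroup.mul_mem_sup s.2 hn
  obtain ⟨P₀, hP₀, hmin⟩ := exists_minimalFor_of_wellFoundedLT
    (P := fun Q : Subgroup G => Inv α Q ∧ Q ≤ N ∧ A ≤ Q ⊔ S) (f := id)
    ⟨N, hTi.normalizer.inf hSi.normalizer, le_rfl, hfr⟩
  obtain ⟨hQi, hQN, hQA⟩ := hP₀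
  have hQS : P₀ ≤ Subgroup.normalizer (S : Set G) := hQN.trans inf_le_right
  have hperf : ⁅P₀, P₀⁆ = P₀ := by
    refine le_antisymm (Subgroup.commutator_le_self P₀) (hmin ⟨?_, ?_, ?_⟩ (Subgroup.commutator_le_self P₀))
    · have : ⁅P₀, P₀⁆ ≤ (⁅P₀, P₀⁆).comap α.toMonoidHom := by
        rw [← Subgroup.map_le_iff_le_comap, Subgroup.map_commutator, hQi.map_eq]
      exact fun x hx => this hx
    · exact (Subgroup.commutator_le_self P₀).trans hQN
    · rw [← hA.perfect, Subgroup.commutator_le]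
      intro a ha b hb
      have hd : ∀ x ∈ A, ∃ q ∈ P₀, ∃ s ∈ S, q * s = x := fun x hx => by
        have hx' := hQA hx
        rwa [← SetLike.mem_coe, Subgroup.coe_mul_of_left_le_normalizer_right P₀ S hQS] at hx'
      obtain ⟨q, hq, s, hs, rfl⟩ := hd a ha
      obtain ⟨q', hq', s', hs', rfl⟩ := hd b hb
      have hn : ∀ q ∈ P₀, ∀ s ∈ S, q * s * q⁻¹ ∈ S := fun q hq s hs =>
        (Subgroup.mem_normalizer_iff.mp (hQS hq) s).mp hs
      have hQQS : P₀ ≤ Subgroup.normalizer ((⁅P₀, P₀⁆ ⊔ S : Subgroup G) : Set G) :=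
        Comp.sup_le_normalizer
          (fun g hg => Comp.mem_normalizer_of_map_conj_eq (by
            rw [Subgroup.map_commutator,
              Comp.map_conj_eq_of_mem_normalizer (Subgroup.le_normalizer hg)])) hQS
      set J := ⁅P₀, P₀⁆ ⊔ S
      have hJ1 : ∀ s ∈ S, s ∈ J := fun s hs => Subgroup.mem_sup_right hs
      have hcj : ∀ g ∈ P₀, ∀ s ∈ S, ⁅g, s⁆ ∈ J := fun g hg s hs => hJ1 _ (by
        rw [commutatorElement_def]
        exact S.mul_mem (hn g hg s hs) (S.inv_mem hs))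
      have hS' : ∀ s ∈ S, ∀ j ∈ J, s * j * s⁻¹ ∈ J := fun s hs j hj =>
        J.mul_mem (J.mul_mem (hJ1 s hs) hj) (J.inv_mem (hJ1 s hs))
      have hP' : ∀ g ∈ P₀, ∀ j ∈ J, g * j * g⁻¹ ∈ J := fun g hg j hj =>
        (Subgroup.mem_normalizer_iff.mp (hQQS hg) j).mp hj
      have he : ⁅q * s, q' * s'⁆ =
          (q * (s * q' * s⁻¹ * q'⁻¹) * q⁻¹) * ⁅q, q'⁆ *
            (q' * (q * (s * s' * s⁻¹) * q⁻¹ * s'⁻¹) * q'⁻¹) := by
        rw [commutatorElement_def, commutatorElement_def]; group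
      rw [he]
      refine J.mul_mem (J.mul_mem ?_ (Subgroup.mem_sup_left
        (Subgroup.commutator_mem_commutator hq hq'))) ?_
      · refine hP' q hq _ (hJ1 _ ?_)
        rw [show s * q' * s⁻¹ * q'⁻¹ = s * (q' * s⁻¹ * q'⁻¹) by group]
        exact S.mul_mem hs (hn q' hq' _ (S.inv_mem hs))
      · refine hP' q' hq' _ (hJ1 _ ?_)
        exact S.mul_mem (hn q hq _ (S.mul_mem (S.mul_mem hs hs') (S.inv_mem hs))) (S.inv_mem hs')
  have hmov : P₀ ≤ moved α P₀ := by
    refine hmin ⟨?_, hQi.moved_le.trans hQN, ?_⟩ hQi.moved_le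
    · have : moved α P₀ ≤ (moved α P₀).comap α.toMonoidHom := moved_le_iff.mpr fun x hx => by
        show α (x * (α x)⁻¹) ∈ moved α P₀
        rw [map_mul, map_inv]
        exact disp_mem_moved (hQi x hx)
      exact fun x hx => this hx
    · refine hA.mov.trans (moved_le_iff.mpr fun a ha => ?_)
      have ha' := hQA ha
      rw [← SetLike.mem_coe, Subgroup.coe_mul_of_left_le_normalizer_right P₀ S hQS] at ha'
      obtain ⟨q, hq, s, hs, rfl⟩ := ha'
      have he : q * s * (α (q * s))⁻¹ = q * (s * (α s)⁻¹) * q⁻¹ * (q * (α q)⁻¹) := by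
        rw [map_mul]; group
      show q * s * (α (q * s))⁻¹ ∈ moved α P₀ ⊔ S
      rw [he]
      exact (moved α P₀ ⊔ S).mul_mem (Subgroup.mem_sup_right ((Subgroup.mem_normalizer_iff.mp (hQS hq) _).mp
        (S.mul_mem hs (S.inv_mem (hSi s hs))))) (Subgroup.mem_sup_left (disp_mem_moved hq))
  have hTfix : fix α ⊓ T = ⊥ := by
    refine le_bot_iff.mp (le_trans (le_inf inf_le_right (inf_le_inf_left _ hTS)) ?_)
    exact (Comp.inf_eq_bot_of_isPGroup hTp hodd).le
  have hQT : P₀ ≤ Subgroup.centralizer (T : Set G) :=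
    le_centralizer_of_fixed hSh hop hTp hTi hQi hperf hmov (hQN.trans inf_le_left) fun v hv hv' => by
      have h1 : v ∈ fix α ⊓ T := ⟨hv', hv⟩
      rw [hTfix, Subgroup.mem_bot] at h1
      rw [h1]
      exact Subgroup.one_mem _
  have hQC := le_centralizer_of_fix_sylow hF hS hperf hQS T' hQT
  exact perfect_le_of_le_sup_fixed hop hA.perfect hA.inv hSi hSi.centralizer
    (Subgroup.le_centralizer_iff.mp le_rfl)
    (hQA.trans (sup_le (le_sup_of_le_right hQC) le_sup_left)) fun m hm hm' => hfix ⟨hm', hm⟩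

end H12.RComp
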