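import Mathlib
import Cfsg.Agent.H12.RComp.CaseB

/-!
A subgroup invariant under a coprime automorphism of prime order and under its fixed points, generated
by its components and by its displacements, lies in the layer; hence the layer of such a subgroup
`H = [H, α]` lies in the layer (helper12).
-/

set_option autoImplicit false

open scoped commutatorElement Pointwise
open Cfsg

namespace H12.RComp

universe u

variable {G : Type u} [Group G] [Finite G] {r : ℕ} [Fact r.Prime] {α : MulAut G} {A : Subgroup G}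

/-- `A` centralises the fixed points in `E(G)` if it centralises its intersection with `E(G)`. -/
theorem centralizes_fixed_layer (hA : Hyp α A) (hAX : ⁅A, layer G ⊓ A⁆ = ⊥) :
    ∀ x ∈ layer G, α x = x → x ∈ Subgroup.centralizer (A : Set G) := by
  have h : fix α ⊓ layer G ≤ Subgroup.centralizer (A : Set G) := by
    rw [← Subgroup.commutator_eq_bot_iff_le_centralizer, Subgroup.commutator_comm]
    refine Comp.commutator_eq_bot_of_perfect hA.perfect (le_bot_iff.mp ?_)
    refine le_trans ?_ hAX.le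
    rw [Subgroup.commutator_comm A (fix α ⊓ layer G), Subgroup.commutator_comm A (layer G ⊓ A)]
    refine Subgroup.commutator_mono (le_inf ?_ ?_) le_rfl
    · exact (Subgroup.commutator_mono inf_le_right le_rfl).trans
        (Subgroup.commutator_le_left (layer G) A)
    · exact Subgroup.le_normalizer_iff_commutator_le_right.mp (inf_le_left.trans hA.norm)
  exact fun x hx hx' => h ⟨hx', hx⟩

/-- With `F(G) = 1`, a subgroup satisfying the hypothesis and centralising its part in `E(G)` is
trivial. -/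
theorem eq_bot_of_commute_layer (hSh : Shult.{u}) (hop : Op r α) (hA : Hyp α A)
    (ih : SmallerOK.{u} r (Nat.card G)) (hF : fittingSubgroup G = ⊥)
    (hAX : ⁅A, layer G ⊓ A⁆ = ⊥) : A = ⊥ := by
  have hfix := centralizes_fixed_layer hA hAX
  refine le_bot_iff.mp ((centralizer_layer_bot hF) ▸ Subgroup.le_centralizer_iff.mpr
    (Comp.layer_le_iff.mpr fun S hS => Subgroup.le_centralizer_iff.mp ?_))
  by_cases hmv : α • S = S
  · have hSi := smul_eq_self_iff_inv.mp hmv
    have hAS := normalizes_fixed_component hF hop hfix hS hSi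
    have hfS : fix α ⊓ S ≤ Subgroup.centralizer (A : Set G) := fun x hx =>
      hfix x (Comp.le_layer hS hx.2) hx.1
    by_cases hd : 2 ∣ Nat.card ↥(fix α ⊓ S)
    · exact centralizes_component_even hF hop hA ih hS hSi hAS hfS hd
    · exact centralizes_component_odd hSh hF hop hA hS hSi hAS hfS hd
  · exact centralizes_moved_component hF hop hA.inv hfix hS hmv

/-- The components of `A` outside `E(G)` generate a subgroup satisfying the hypothesis. -/
theorem le_layer_step (hSh : Shult.{u}) (hop : Op r α) (hA : Hyp α A)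
    (ih : SmallerOK.{u} r (Nat.card G)) (hF : fittingSubgroup G = ⊥) : A ≤ layer G := by
  set X := layer G
  let A₁ : Subgroup G := sSup {K | CompOf A K ∧ ¬ K ≤ X}
  let A₂ : Subgroup G := sSup {K | CompOf A K ∧ K ≤ X}
  have hA1 : A₁ ≤ A := sSup_compOf_le fun K hK => hK.1
  have hA2 : A₂ ≤ A := sSup_compOf_le fun K hK => hK.1
  have hA2X : A₂ ≤ X := sSup_le fun K hK => hK.2
  have hA12 : A ≤ A₁ ⊔ A₂ := hA.semis.trans (sSup_le fun K hK => by
    by_cases h : K ≤ X
    · exact le_sup_of_le_right (le_sSup ⟨hK, h⟩)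
    · exact le_sup_of_le_left (le_sSup ⟨hK, h⟩))
  have hcen : A₁ ≤ Subgroup.centralizer ((X ⊓ A : Subgroup G) : Set G) := sSup_le fun K hK =>
    Subgroup.commutator_eq_bot_iff_le_centralizer.mp
      ((CompOf.le_or_commute_inf hK.1 (Comp.le_normalizer_of_normal (N := X))).resolve_left hK.2)
  have hc12 : A₁ ≤ Subgroup.centralizer (A₂ : Set G) :=
    hcen.trans (Subgroup.centralizer_le (le_inf hA2X hA2))
  have hmap : ∀ e : G ≃* G, A.map e.toMonoidHom = A → X.map e.toMonoidHom = X →
      A₁.map e.toMonoidHom ≤ A₁ := by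
    intro e he heX
    rw [Subgroup.map_le_iff_le_comap]
    refine sSup_le fun K hK => ?_
    rw [← Subgroup.map_le_iff_le_comap]
    refine le_sSup ⟨hK.1.map_equiv e he, fun hle => hK.2 fun x hx => ?_⟩
    obtain ⟨y, hy, hye⟩ := heX.ge (hle ⟨x, hx, rfl⟩)
    exact e.injective hye ▸ hy
  have hA1hyp : Hyp α A₁ := by
    refine ⟨fun a ha => hmap α hA.inv.map_eq (Inv.of_characteristic α X).map_eq ⟨a, ha, rfl⟩,
      fun g hg => ?_, ?_, ?_⟩
    · refine Subgroup.mem_normalizer_fintype fun a ha => ?_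
      exact hmap (MulAut.conj g) (Comp.map_conj_eq_of_mem_normalizer (hA.norm hg))
        (Comp.map_conj_eq_of_mem_normalizer (Comp.le_normalizer_of_normal (N := X) (H := ⊤) trivial))
        ⟨a, ha, rfl⟩
    · exact sSup_le fun K hK =>
        le_sSup (CompOf.mono hK.1 (le_sSup (s := {K | CompOf A K ∧ ¬ K ≤ X}) hK) hA1)
    · -- `A₁` is generated by its displacements
      set D := moved α A₁
      have hD : D ≤ A₁ :=
        moved_le_iff.mpr fun a ha => A₁.mul_mem ha (A₁.inv_mem (hmap α hA.inv.map_eq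
          (Inv.of_characteristic α X).map_eq ⟨a, ha, rfl⟩))
      have hA2i : ∀ a ∈ A₂, α a ∈ A ∧ α a ∈ X := fun a ha =>
        ⟨hA.inv a (hA2 ha), Inv.of_characteristic α X a (hA2X ha)⟩
      have hmv : A ≤ D ⊔ (X ⊓ A) := hA.mov.trans (moved_le_iff.mpr fun a ha => by
        have ha' := hA12 ha
        rw [← SetLike.mem_coe, Subgroup.coe_mul_of_left_le_normalizer_right A₁ A₂
          (hc12.trans (Subgroup.centralizer_le_normalizer _))] at ha'
        obtain ⟨x, hx, y, hy, rfl⟩ := ha'
        have hz : y * (α y)⁻¹ ∈ X ⊓ A := Subgroup.mem_inf.mpr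
          ⟨X.mul_mem (hA2X hy) (X.inv_mem (hA2i y hy).2), A.mul_mem (hA2 hy) (A.inv_mem (hA2i y hy).1)⟩
        have he : x * y * (α (x * y))⁻¹ = x * (y * (α y)⁻¹) * (α x)⁻¹ := by rw [map_mul]; group
        show x * y * (α (x * y))⁻¹ ∈ D ⊔ (X ⊓ A)
        have hc := Comp.commute_of_le_centralizer hcen
          (hmap α hA.inv.map_eq (Inv.of_characteristic α X).map_eq ⟨x, hx, rfl⟩) hz
        change α x * (y * (α y)⁻¹) = y * (α y)⁻¹ * α x at hc
        rw [he, show x * (y * (α y)⁻¹) * (α x)⁻¹ = x * (α x)⁻¹ * (α x * (y * (α y)⁻¹)) * (α x)⁻¹ by group,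
          hc, show x * (α x)⁻¹ * (y * (α y)⁻¹ * α x) * (α x)⁻¹ = x * (α x)⁻¹ * (y * (α y)⁻¹) by group]
        exact Subgroup.mul_mem_sup (disp_mem_moved hx) hz)
      have hperf : ⁅A₁, A₁⁆ = A₁ := Comp.sSup_perfect _ fun K hK => hK.1.perfect
      rw [← hperf, Subgroup.commutator_le]
      intro a ha b hb
      have hsplit : ∀ x ∈ A₁, ∃ d ∈ D, ∃ z ∈ X ⊓ A, d * z = x := fun x hx => by
        have hx' := hmv (hA1 hx)
        rwa [← SetLike.mem_coe, Subgroup.coe_mul_of_left_le_normalizer_right D (X ⊓ A)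
          ((hD.trans hcen).trans (Subgroup.centralizer_le_normalizer _))] at hx'
      obtain ⟨d, hd, z, hz, rfl⟩ := hsplit a ha
      obtain ⟨d', hd', z', hz', rfl⟩ := hsplit b hb
      have hzA : ∀ d ∈ D, ∀ z ∈ X ⊓ A, d * z ∈ A₁ → z ∈ A₁ := fun d hd z _ h => by
        rw [show z = d⁻¹ * (d * z) by group]
        exact A₁.mul_mem (A₁.inv_mem (hD hd)) h
      have c1 : Commute z d' := (Comp.commute_of_le_centralizer hcen (hD hd') hz).symm
      have c2 : Commute z z' := (Comp.commute_of_le_centralizer hcen (hzA d' hd' z' hz' hb) hz).symm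
      have c3 : Commute z' d := (Comp.commute_of_le_centralizer hcen (hD hd) hz').symm
      have he : ⁅d * z, d' * z'⁆ = ⁅d, d'⁆ := by
        rw [commutatorElement_def, commutatorElement_def]
        calc d * z * (d' * z') * (d * z)⁻¹ * (d' * z')⁻¹
            = d * (z * d') * z' * z⁻¹ * d⁻¹ * z'⁻¹ * d'⁻¹ := by group
          _ = d * d' * (z * z') * z⁻¹ * d⁻¹ * z'⁻¹ * d'⁻¹ := by rw [c1.eq]; group
          _ = d * d' * (z' * d⁻¹) * z'⁻¹ * d'⁻¹ := by rw [c2.eq]; group
          _ = _ := by rw [c3.inv_right.eq]; group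
      rw [he, commutatorElement_def]
      exact D.mul_mem (D.mul_mem (D.mul_mem hd hd') (D.inv_mem hd)) (D.inv_mem hd')
  have h1 : A₁ = ⊥ := eq_bot_of_commute_layer hSh hop hA1hyp ih hF
    (Subgroup.commutator_eq_bot_iff_le_centralizer.mpr
      (hcen.trans (Subgroup.centralizer_le (fun x hx => ⟨hx.1, hA1 hx.2⟩))))
  exact hA12.trans (sup_le (h1 ▸ bot_le) hA2X)

theorem le_layer_aux (hSh : Shult.{u}) : ∀ n, SmallerOK.{u} r n := by
  intro n
  induction n using Nat.strong_induction_on with
  | _ n ih =>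
    intro H _ _ hlt β B hop hB
    by_cases hF : fittingSubgroup H = ⊥
    · exact le_layer_step hSh hop hB (ih _ hlt) hF
    · exact caseA hSh hop hB (ih _ hlt) hF

/-- A subgroup satisfying the hypothesis lies in the layer. -/
theorem le_layer (hSh : Shult.{u}) (hop : Op r α) (hA : Hyp α A) : A ≤ layer G :=
  le_layer_aux hSh (Nat.card G + 1) G (Nat.lt_succ_self _) α A hop hA

/-- If `H` is invariant under `α` and its fixed points, and generated by its displacements, then
`E(H) ≤ E(G)`. -/
theorem layer_le_layer (hSh : Shult.{u}) (hop : Op r α) {H : Subgroup G} (hi : Inv α H)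
    (hn : fix α ≤ Subgroup.normalizer (H : Set G)) (hm : H ≤ moved α H) :
    (layer ↥H).map H.subtype ≤ layer G := by
  let B : Subgroup G := sSup {K | CompOf H K ∧ ¬ ∀ x ∈ K, α x = x}
  have hB : B ≤ H := sSup_compOf_le fun K hK => hK.1
  have hmapB : ∀ e : G ≃* G, H.map e.toMonoidHom = H → (∀ x, α (e x) = e x ↔ α x = x) →
      B.map e.toMonoidHom ≤ B := by
    intro e he hx
    rw [Subgroup.map_le_iff_le_comap]
    refine sSup_le fun K hK => ?_
    rw [← Subgroup.map_le_iff_le_comap]
    exact le_sSup ⟨hK.1.map_equiv e he, fun hall => hK.2 fun x hxK => (hx x).mp (hall _ ⟨x, hxK, rfl⟩)⟩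
  have hBi : Inv α B := fun a ha => hmapB α hi.map_eq
    (fun x => ⟨fun h => α.injective h, fun h => congrArg α h⟩) ⟨a, ha, rfl⟩
  have hBmem : ∀ K, CompOf H K → (¬ ∀ x ∈ K, α x = x) → K ≤ B := fun K h1 h2 => le_sSup ⟨h1, h2⟩
  have hBhyp : Hyp α B := by
    refine ⟨hBi, fun g hg => ?_, ?_, ?_⟩
    · refine Subgroup.mem_normalizer_fintype fun a ha => ?_
      refine hmapB (MulAut.conj g) (Comp.map_conj_eq_of_mem_normalizer (hn hg)) (fun x => ?_) ⟨a, ha, rfl⟩
      have hg' : α g = g := hg
      show α (g * x * g⁻¹) = g * x * g⁻¹ ↔ α x = x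
      rw [map_mul, map_mul, map_inv, hg', mul_left_inj, mul_right_inj]
    · exact sSup_le fun K hK => le_sSup (CompOf.mono hK.1 (hBmem K hK.1 hK.2) hB)
    · refine sSup_le fun K hK => ?_
      have hKB : CompOf B K := hK.1.mono (hBmem K hK.1 hK.2) hB
      set D := moved α B
      have hDB : D ≤ B := hBi.moved_le
      have hDn : B ≤ Subgroup.normalizer (D : Set G) := fun b hb => by
        refine Subgroup.mem_normalizer_fintype fun d hd => ?_
        have hle : D ≤ D.comap (MulAut.conj b).toMonoidHom := moved_le_iff.mpr fun a ha => by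
          show b * (a * (α a)⁻¹) * b⁻¹ ∈ D
          have he : b * (a * (α a)⁻¹) * b⁻¹ = b * a * (α (b * a))⁻¹ * (b * (α b)⁻¹)⁻¹ := by
            rw [map_mul]; group
          rw [he]
          exact D.mul_mem (disp_mem_moved (B.mul_mem hb ha)) (D.inv_mem (disp_mem_moved hb))
        exact hle hd
      rcases CompOf.le_or_commute hKB hDB
        (Subgroup.normal_subgroupOf_of_le_normalizer hDn).isSubnormal with h | h
      · exact h
      · exfalso
        refine hK.2 ?_
        have hKD : K ≤ Subgroup.centralizer (D : Set G) :=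
          Subgroup.commutator_eq_bot_iff_le_centralizer.mp h
        have hc : ∀ y ∈ K, ∀ x ∈ K, Commute (y * (α y)⁻¹) x := fun y hy x hx =>
          Comp.commute_of_le_centralizer (Subgroup.le_centralizer_iff.mp hKD)
            (disp_mem_moved (hKB.1 hy)) hx
        have hαK : K.map α.toMonoidHom = K := by
          refine ((hKB.map_equiv α hBi.map_eq).eq_or_commute hKB).resolve_right fun hcom => ?_
          refine hKB.not_comm fun y hy => Subgroup.mem_centralizer_iff.mpr fun x hx => ?_
          have h1 : Commute (α y) x := Comp.commute_of_commutator_eq_bot hcom ⟨y, hy, rfl⟩ hx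
          have h2 := (hc y hy x hx).mul_left h1
          rw [inv_mul_cancel_right] at h2
          exact h2.eq.symm
        have hcen : ∀ y ∈ K, y * (α y)⁻¹ ∈ K ∧ ∀ x ∈ K, Commute (y * (α y)⁻¹) x := fun y hy =>
          ⟨K.mul_mem hy (K.inv_mem (hαK.le ⟨y, hy, rfl⟩)), hc y hy⟩
        have hle : K ≤ fix α := by
          rw [← hKB.perfect, Subgroup.commutator_le]
          intro x hx y hy
          show α ⁅x, y⁆ = ⁅x, y⁆
          have hαx : α x ∈ K := hαK.le ⟨x, hx, rfl⟩
          have hαy : α y ∈ K := hαK.le ⟨y, hy, rfl⟩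
          set c := x * (α x)⁻¹
          set c' := y * (α y)⁻¹
          have ex : x = c * α x := by simp [c]
          have ey : y = c' * α y := by simp [c']
          have c1 : Commute c (c' * α y) := ey ▸ (hcen x hx).2 y hy
          have c2 : Commute c' (α x) := (hcen y hy).2 _ hαx
          rw [map_commutatorElement]
          conv_rhs => rw [ex, ey]
          rw [commutatorElement_def, commutatorElement_def]
          symm
          calc c * α x * (c' * α y) * (c * α x)⁻¹ * (c' * α y)⁻¹
              = c * (α x * (c' * α y) * (α x)⁻¹) * c⁻¹ * (c' * α y)⁻¹ := by group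
            _ = (α x * (c' * α y) * (α x)⁻¹) * c * c⁻¹ * (c' * α y)⁻¹ := by
                rw [((hcen x hx).2 _ (K.mul_mem (K.mul_mem hαx (ey ▸ hy)) (K.inv_mem hαx))).eq]
            _ = α x * c' * α y * (α x)⁻¹ * (α y)⁻¹ * c'⁻¹ := by group
            _ = c' * (α x * α y * (α x)⁻¹ * (α y)⁻¹) * c'⁻¹ := by rw [c2.symm.eq]; group
            _ = (α x * α y * (α x)⁻¹ * (α y)⁻¹) * c' * c'⁻¹ := by
                rw [((hcen y hy).2 _ (K.mul_mem (K.mul_mem (K.mul_mem hαx hαy) (K.inv_mem hαx))
                  (K.inv_mem hαy))).eq]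
            _ = _ := by group
        exact fun x hx => hle hx
  have hBL : B ≤ layer G := le_layer hSh hop hBhyp
  rw [layer_map_eq_sSup]
  refine sSup_le fun K hK => ?_
  by_cases hex : ∃ h ∈ H, ¬ ∀ x ∈ K, α (h * x * h⁻¹) = h * x * h⁻¹
  · obtain ⟨h, hh, hne⟩ := hex
    intro x hx
    have hK' : CompOf H (K.map (MulAut.conj h).toMonoidHom) :=
      hK.map_equiv _ (Comp.map_conj_eq_of_mem_normalizer (Subgroup.le_normalizer hh))
    have h1 : h * x * h⁻¹ ∈ layer G := hBL (hBmem _ hK' (fun hall => hne fun y hy =>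
      hall _ ⟨y, hy, rfl⟩) ⟨x, hx, rfl⟩)
    have h2 := (inferInstance : (layer G).Normal).conj_mem _ h1 h⁻¹
    simpa [mul_assoc] using h2
  · push Not at hex
    exfalso
    refine hK.not_comm (hK.1.trans (hm.trans (moved_le_iff.mpr fun h hh => ?_)))
    refine Subgroup.mem_centralizer_iff.mpr fun x hx => ?_
    have hx1 := hex 1 H.one_mem x hx
    rw [one_mul, inv_one, mul_one] at hx1
    have hx2 := hex h⁻¹ (H.inv_mem hh) x hx
    rw [inv_inv, map_mul, map_mul, map_inv, hx1] at hx2
    calc x * (h * (α h)⁻¹) = h * (h⁻¹ * x * h) * (α h)⁻¹ := by group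
      _ = h * ((α h)⁻¹ * x * α h) * (α h)⁻¹ := by rw [hx2]
      _ = h * (α h)⁻¹ * x := by group

end H12.RComp
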