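import Mathlib
import Cfsg.Agent.H12.RComp.Main

/-!
The statement of S1933 from the fixed-point theorem of Shult type (helper12).
-/

set_option autoImplicit false

open scoped commutatorElement
open Cfsg

namespace H12.RComp

universe u

theorem s1933 (hSh : Shult.{u}) {X : Type u} [Group X] [Finite X] (G R : Subgroup X) (r : ℕ)
    [hr : Fact r.Prime] (hR : Nat.card ↥R = r) (hcop : (Nat.card ↥G).Coprime r)
    (hnorm : R ≤ Subgroup.normalizer (G : Set X)) (H : Subgroup X) (hHG : H ≤ G)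
    (hHinv : R ⊔ (G ⊓ Subgroup.centralizer (R : Set X)) ≤ Subgroup.normalizer (H : Set X))
    (hHR : ⁅H, R⁆ = H) : (layer ↥H).map H.subtype ≤ (layer ↥G).map G.subtype := by
  have hRnt : Nontrivial ↥R := (Nat.card R).eq_zero_or_pos.elim (fun h => absurd h Nat.card_pos.ne')
    fun _ => Finite.one_lt_card_iff_nontrivial.mp (hR ▸ hr.out.one_lt)
  obtain ⟨⟨g, hg⟩, hg1⟩ := exists_ne (1 : ↥R)
  have hgen : Subgroup.zpowers g = R := by
    refine Subgroup.eq_of_le_of_card_ge (Subgroup.zpowers_le.mpr hg) ?_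
    rw [hR, Nat.card_zpowers]
    refine le_of_eq (Eq.symm ?_)
    have hd : orderOf g ∣ r := by
      rw [← hR, ← Nat.card_zpowers]
      exact Subgroup.card_dvd_of_le (Subgroup.zpowers_le.mpr hg)
    exact ((Nat.dvd_prime hr.out).mp hd).resolve_left fun h =>
      hg1 (Subtype.ext (orderOf_eq_one_iff.mp h))
  have hgr : g ^ r = 1 := by
    have h := pow_card_eq_one' (x := (⟨g, hg⟩ : ↥R))
    rw [hR] at h
    exact congrArg Subtype.val h
  let φ := Subgroup.normalizerMonoidHom G
  let α : MulAut ↥G := φ ⟨g, hnorm hg⟩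
  have hα : ∀ x : ↥G, (α x : X) = g * x * g⁻¹ := fun _ => rfl
  have hαpow : ∀ (n : ℕ) (x : ↥G), ((α ^ n) x : X) = g ^ n * x * (g ^ n)⁻¹ := by
    intro n x
    show ((φ ⟨g, hnorm hg⟩ ^ n) x : X) = _
    rw [← map_pow]
    rfl
  have hop : Op r α := by
    refine ⟨?_, fun hd => ?_⟩
    · ext x
      rw [hαpow, hgr]
      simp
    · exact hr.out.one_lt.ne' (Nat.eq_one_of_dvd_coprimes hcop hd dvd_rfl)
  let H' : Subgroup ↥G := H.subgroupOf G
  have hRH : R ≤ Subgroup.normalizer (H : Set X) := le_sup_left.trans hHinv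
  have hi : Inv α H' := fun a ha => by
    show (α a : X) ∈ H
    rw [hα]
    exact (Subgroup.mem_normalizer_iff.mp (hRH hg) _).mp ha
  have hn : fix α ≤ Subgroup.normalizer (H' : Set ↥G) := by
    intro x hx
    have hx' : g * (x : X) * g⁻¹ = x := congrArg Subtype.val hx
    have hc : (x : X) ∈ Subgroup.centralizer (R : Set X) := by
      rw [← hgen, Subgroup.zpowers_eq_closure, Subgroup.centralizer_closure]
      exact Subgroup.mem_centralizer_singleton_iff.mpr (mul_inv_eq_iff_eq_mul.mp hx').symm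
    have hxn := hHinv (Subgroup.mem_sup_right (⟨x.2, hc⟩ : (x : X) ∈ G ⊓ Subgroup.centralizer (R : Set X)))
    exact Subgroup.mem_normalizer_fintype fun a ha => (Subgroup.mem_normalizer_iff.mp hxn a).mp ha
  have hm : H' ≤ moved α H' := by
    have hle : H ≤ (moved α H').map G.subtype := by
      rw [← hHR, Subgroup.commutator_le]
      intro h hh y hy
      rw [← hgen] at hy
      obtain ⟨k, rfl⟩ := Submonoid.mem_powers_iff _ _ |>.mp (mem_powers_iff_mem_zpowers.mpr hy)
      refine ⟨⟨h, hHG hh⟩ * ((α ^ k) ⟨h, hHG hh⟩)⁻¹, ?_, ?_⟩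
      · suffices hk : ∀ (k : ℕ) (a : ↥G), a ∈ H' → a * ((α ^ k) a)⁻¹ ∈ moved α H' from
          hk k ⟨h, hHG hh⟩ hh
        intro k
        induction k with
        | zero => intro a _; simp
        | succ k ih =>
          intro a ha
          rw [pow_succ, MulAut.mul_apply,
            show a * ((α ^ k) (α a))⁻¹ = a * (α a)⁻¹ * (α a * ((α ^ k) (α a))⁻¹) by group]
          exact (moved α H').mul_mem (disp_mem_moved ha) (ih _ (hi a ha))
      · rw [map_mul, map_inv]
        show h * ((α ^ k) ⟨h, hHG hh⟩ : X)⁻¹ = ⁅h, g ^ k⁆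
        rw [hαpow, commutatorElement_def]
        group
    intro a ha
    obtain ⟨b, hb, hba⟩ := hle ha
    rwa [← Subtype.ext hba]
  have h1 := layer_le_layer hSh hop hi hn hm
  let e : ↥H' ≃* ↥H := Subgroup.subgroupOfEquivOfLe hHG
  rintro _ ⟨y, hy, rfl⟩
  rw [← Comp.layer_map_equiv e] at hy
  obtain ⟨z, hz, rfl⟩ := hy
  exact ⟨H'.subtype z, h1 ⟨z, hz, rfl⟩, rfl⟩

end H12.RComp
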